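import Cfsg.Agent.H651.HNF.DP
import Cfsg.Agent.H315.PwHN
import Cfsg.Agent.H845.HNSeven
import Mathlib.GroupTheory.SpecificGroups.Alternating

/-!
# The elements of order 7, 14, 21, 11, 22, 19 of the Harada–Norton group (helper651)

* `card7`, `card14`, `card21`, `card11`, `card22`, `card19` : the orders of the centralizers;
* `conj7`, `conj14`, `conj21`, `conj11`, `conj22` : one class each;
* `ord7`, `ord11`, `ord19` : the orders of the elements `g` with `7 ∣ orderOf g`, `5 ∤ orderOf g`, ...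
* `n7`, `n14`, `n21`, `n11`, `n22` : the numbers of elements.
-/

set_option autoImplicit false

namespace Cfsg.Agent.H651.HNF

open Subgroup Cfsg

abbrev G : Type := Cfsg.Spor.HN

instance fin : Finite G := Cfsg.Agent.H845.HNNineteen.finite_HN

theorem card_G : Nat.card G = 273030912000000 := Cfsg.Agent.KFacts.HN.Classes.card_HN

/-! ### The alternating group of degree 5 -/

abbrev A5 : Type := alternatingGroup (Fin 5)

theorem m2 : Equiv.swap (0 : Fin 5) 4 * Equiv.swap 1 3 ∈ alternatingGroup (Fin 5) := by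
  rw [Equiv.Perm.mem_alternatingGroup]; decide +kernel

theorem m3 : Equiv.swap (0 : Fin 5) 1 * Equiv.swap 1 2 ∈ alternatingGroup (Fin 5) := by
  rw [Equiv.Perm.mem_alternatingGroup]; decide +kernel

def e2 : A5 := ⟨Equiv.swap (0 : Fin 5) 4 * Equiv.swap 1 3, m2⟩
def e3 : A5 := ⟨Equiv.swap (0 : Fin 5) 1 * Equiv.swap 1 2, m3⟩

theorem A5_two' : ∀ g : A5, g * g = 1 → g ≠ 1 → ∃ c : A5, c * g = e2 * c := by decide +kernel
theorem A5_three' : ∀ g : A5, g * g * g = 1 → g ≠ 1 → ∃ c : A5, c * g = e3 * c := by decide +kernel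

theorem A5_two : ∀ g h : A5, orderOf g = 2 → orderOf h = 2 → IsConj g h := by
  have key : ∀ g : A5, orderOf g = 2 → IsConj g e2 := by
    intro g hg
    have h1 : g * g = 1 := by rw [← pow_two, ← hg, pow_orderOf_eq_one]
    obtain ⟨c, hc⟩ := A5_two' g h1 (by rintro rfl; rw [orderOf_one] at hg; omega)
    exact isConj_iff.2 ⟨c, by rw [hc]; group⟩
  exact fun g h hg hh => (key g hg).trans (key h hh).symm

theorem A5_three : ∀ g h : A5, orderOf g = 3 → orderOf h = 3 → IsConj g h := by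
  have key : ∀ g : A5, orderOf g = 3 → IsConj g e3 := by
    intro g hg
    have h0 : g ^ 3 = 1 := by rw [← hg, pow_orderOf_eq_one]
    have h1 : g * g * g = 1 := by rw [← h0, pow_succ, pow_two]
    obtain ⟨c, hc⟩ := A5_three' g h1 (by rintro rfl; rw [orderOf_one] at hg; omega)
    exact isConj_iff.2 ⟨c, by rw [hc]; group⟩
  exact fun g h hg hh => (key g hg).trans (key h hh).symm

theorem card_of {g : A5} {n : ℕ} (h : (Finset.univ.filter fun c : A5 => c * g = g * c).card = n) :
    Nat.card (centralizer ({g} : Set A5)) = n := by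
  rw [← h, ← Fintype.card_subtype, ← Nat.card_eq_fintype_card]
  exact Nat.card_congr (Equiv.subtypeEquivRight fun c => mem_centralizer_singleton_iff)

theorem o2 : orderOf e2 = 2 := orderOf_eq_prime (by decide +kernel) (by decide +kernel)
theorem o3 : orderOf e3 = 3 := orderOf_eq_prime (by decide +kernel) (by decide +kernel)

theorem A5_c2 : ∀ g : A5, orderOf g = 2 → Nat.card (centralizer ({g} : Set A5)) = 4 := by
  intro g hg
  rw [Cfsg.Agent.H871.Th7.card_cent_conj (A5_two g e2 hg o2)]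
  exact card_of (by decide +kernel)

theorem A5_c3 : ∀ g : A5, orderOf g = 3 → Nat.card (centralizer ({g} : Set A5)) = 3 := by
  intro g hg
  rw [Cfsg.Agent.H871.Th7.card_cent_conj (A5_three g e3 hg o3)]
  exact card_of (by decide +kernel)

theorem A5_ord : ∀ g : A5, ¬ 5 ∣ orderOf g → orderOf g = 1 ∨ orderOf g = 2 ∨ orderOf g = 3 := by
  have h : ∀ g : A5, g ^ 1 = 1 ∨ g ^ 2 = 1 ∨ g ^ 3 = 1 ∨ g ^ 5 = 1 := by decide +kernel
  intro g h5
  rcases h g with h1 | h1 | h1 | h1
  · left
    rw [pow_one] at h1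
    rw [h1, orderOf_one]
  · rcases (Nat.dvd_prime Nat.prime_two).1 (orderOf_dvd_of_pow_eq_one h1) with h2 | h2
    · exact Or.inl h2
    · exact Or.inr (Or.inl h2)
  · rcases (Nat.dvd_prime Nat.prime_three).1 (orderOf_dvd_of_pow_eq_one h1) with h2 | h2
    · exact Or.inl h2
    · exact Or.inr (Or.inr h2)
  · rcases (Nat.dvd_prime Nat.prime_five).1 (orderOf_dvd_of_pow_eq_one h1) with h2 | h2
    · exact Or.inl h2
    · exact absurd (by rw [h2]) h5

theorem card_A5 : Nat.card A5 = 60 := by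
  rw [Nat.card_eq_fintype_card]
  decide +kernel

/-! ### The prime 7 -/

section

variable {x : G} {K : Subgroup G}

theorem order_e (e : K ≃* A5) {a : G} (ha : a ∈ K) : orderOf (e ⟨a, ha⟩) = orderOf a := by
  rw [MulEquiv.orderOf_eq, Subgroup.orderOf_mk]

theorem card_inf (e : K ≃* A5) {a : G} (ha : a ∈ K) :
    Nat.card ↥(K ⊓ centralizer ({a} : Set G)) = Nat.card (centralizer ({e ⟨a, ha⟩} : Set A5)) := by
  refine Nat.card_congr ⟨fun c => ⟨e ⟨c, c.2.1⟩, ?_⟩, fun c => ⟨(e.symm c : K), ?_, ?_⟩, fun c => ?_, fun c => ?_⟩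
  · have h1 : (c : G) * a = a * c := mem_centralizer_singleton_iff.1 c.2.2
    rw [mem_centralizer_singleton_iff, ← map_mul, ← map_mul]
    congr 1
    exact Subtype.ext h1
  · exact (e.symm c : K).2
  · have h1 : (c : A5) * e ⟨a, ha⟩ = e ⟨a, ha⟩ * c := mem_centralizer_singleton_iff.1 c.2
    have h2 := congrArg e.symm h1
    rw [map_mul, map_mul, e.symm_apply_apply] at h2
    exact mem_centralizer_singleton_iff.2 (congrArg Subtype.val h2)
  · apply Subtype.ext
    show ((e.symm (e ⟨c, c.2.1⟩) : K) : G) = c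
    rw [e.symm_apply_apply]
  · apply Subtype.ext
    show e ⟨((e.symm c : K) : G), _⟩ = c
    exact e.apply_symm_apply c

theorem conj_K (e : K ≃* A5) (hx : ∀ k ∈ K, k * x = x * k) {n : ℕ} (hn : ∀ g h : A5, orderOf g = n → orderOf h = n → IsConj g h)
    {a b : G} (ha : a ∈ K) (hb : b ∈ K) (oa : orderOf a = n) (ob : orderOf b = n) : IsConj (x * a) (x * b) := by
  obtain ⟨c, hc⟩ := isConj_iff.1 (hn (e ⟨a, ha⟩) (e ⟨b, hb⟩) (by rw [order_e, oa]) (by rw [order_e, ob]))
  have h1 : (e.symm c) * ⟨a, ha⟩ * (e.symm c)⁻¹ = ⟨b, hb⟩ := by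
    apply e.injective
    rw [map_mul, map_mul, map_inv, e.apply_symm_apply, hc]
  refine isConj_iff.2 ⟨(e.symm c : K), ?_⟩
  have h2 : ((e.symm c : K) : G) * a * ((e.symm c : K) : G)⁻¹ = b := congrArg Subtype.val h1
  calc ((e.symm c : K) : G) * (x * a) * ((e.symm c : K) : G)⁻¹
      = (((e.symm c : K) : G) * x) * a * ((e.symm c : K) : G)⁻¹ := by group
    _ = x * (((e.symm c : K) : G) * a * ((e.symm c : K) : G)⁻¹) := by rw [hx _ (e.symm c : K).2]; group
    _ = x * b := by rw [h2]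

end

theorem f7 : Fact (Nat.Prime 7) := ⟨by norm_num⟩
theorem sq7 : ¬ 7 ^ 2 ∣ Nat.card G := by rw [card_G]; norm_num

/-- the data for 7 -/
theorem dp7 : ∃ (x : G) (K : Subgroup G), DP 7 x K ∧ Nonempty (K ≃* A5) ∧ ∀ y : G, orderOf y = 7 → IsConj x y := by
  have := f7
  obtain ⟨x, K, hx, ⟨e⟩, hc, h420⟩ := Cfsg.Agent.H845.HNSeven.hn_seven
  have hK : Nat.card K = 60 := by rw [Nat.card_congr e.toEquiv, card_A5]
  refine ⟨x, K, ⟨by norm_num, hx, hc, by rw [h420, hK], by rw [hK]; norm_num⟩, ⟨e⟩, fun y hy => ?_⟩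
  have h1 := card_normalizer_eq (e := 6) (n := 650073600000) (K := 60) sq7 hx (by rw [h420]) (by rw [card_G])
    (by norm_num) (by norm_num) (by norm_num)
  refine conj_prime sq7 hx hy ?_
  rw [h1, H904.SylOne.centralizer_zpowers_eq, h420]

theorem ord7 : ∀ g : G, 7 ∣ orderOf g → ¬ 5 ∣ orderOf g → orderOf g = 7 ∨ orderOf g = 14 ∨ orderOf g = 21 := by
  intro g h7 h5
  obtain ⟨x, K, D, ⟨e⟩, hall⟩ := dp7
  obtain ⟨a, ha, -, ho⟩ := D.exists_conj hall h7
  have h1 : ¬ 5 ∣ orderOf a := fun h => h5 (by rw [ho]; exact h.mul_left 7)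
  rw [← order_e e ha] at h1 ho
  rcases A5_ord _ h1 with h2 | h2 | h2
  · left; rw [ho, h2]
  · right; left; rw [ho, h2]
  · right; right; rw [ho, h2]

theorem conj7 : ∀ g h : G, orderOf g = 7 → orderOf h = 7 → IsConj g h := by
  obtain ⟨x, K, D, -, hall⟩ := dp7
  exact fun g h hg hh => (hall g hg).symm.trans (hall h hh)

theorem conj14 : ∀ g h : G, orderOf g = 14 → orderOf h = 14 → IsConj g h := by
  obtain ⟨x, K, D, ⟨e⟩, hall⟩ := dp7
  intro g h hg hh
  obtain ⟨a, ha, h1, h2⟩ := D.exists_conj hall (y := g) (by rw [hg]; norm_num)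
  obtain ⟨b, hb, h3, h4⟩ := D.exists_conj hall (y := h) (by rw [hh]; norm_num)
  exact (h1.symm.trans (conj_K e D.comm A5_two ha hb (by omega) (by omega))).trans h3

theorem conj21 : ∀ g h : G, orderOf g = 21 → orderOf h = 21 → IsConj g h := by
  obtain ⟨x, K, D, ⟨e⟩, hall⟩ := dp7
  intro g h hg hh
  obtain ⟨a, ha, h1, h2⟩ := D.exists_conj hall (y := g) (by rw [hg]; norm_num)
  obtain ⟨b, hb, h3, h4⟩ := D.exists_conj hall (y := h) (by rw [hh]; norm_num)
  exact (h1.symm.trans (conj_K e D.comm A5_three ha hb (by omega) (by omega))).trans h3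

theorem card7 : ∀ g : G, orderOf g = 7 → Nat.card (centralizer ({g} : Set G)) = 420 := by
  obtain ⟨x, K, D, ⟨e⟩, hall⟩ := dp7
  intro g hg
  rw [Cfsg.Agent.H871.Th7.card_cent_conj (hall g hg).symm, D.card, Nat.card_congr e.toEquiv, card_A5]

theorem card14 : ∀ g : G, orderOf g = 14 → Nat.card (centralizer ({g} : Set G)) = 28 := by
  obtain ⟨x, K, D, ⟨e⟩, hall⟩ := dp7
  intro g hg
  obtain ⟨a, ha, h1, h2⟩ := D.exists_conj hall (y := g) (by rw [hg]; norm_num)
  have h3 := D.card_cent (i := 1) (by norm_num) ha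
  rw [pow_one, card_inf e ha, A5_c2 _ (by rw [order_e]; omega)] at h3
  rw [Cfsg.Agent.H871.Th7.card_cent_conj h1.symm, h3]

theorem card21 : ∀ g : G, orderOf g = 21 → Nat.card (centralizer ({g} : Set G)) = 21 := by
  obtain ⟨x, K, D, ⟨e⟩, hall⟩ := dp7
  intro g hg
  obtain ⟨a, ha, h1, h2⟩ := D.exists_conj hall (y := g) (by rw [hg]; norm_num)
  have h3 := D.card_cent (i := 1) (by norm_num) ha
  rw [pow_one, card_inf e ha, A5_c3 _ (by rw [order_e]; omega)] at h3
  rw [Cfsg.Agent.H871.Th7.card_cent_conj h1.symm, h3]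

/-- the number of elements in one class -/
theorem number {n c : ℕ} (hc : ∀ g : G, orderOf g = n → Nat.card (centralizer ({g} : Set G)) = c)
    (hj : ∀ g h : G, orderOf g = n → orderOf h = n → IsConj g h) :
    c * Nat.card {g : G // orderOf g = n} ≤ Nat.card G := by
  rcases isEmpty_or_nonempty {g : G // orderOf g = n} with h | ⟨⟨w, hw⟩⟩
  · rw [Nat.card_of_isEmpty, mul_zero]; exact Nat.zero_le _
  · have h := Cfsg.Agent.H871.Th7.card_conj w (fun g : G => orderOf g = n) fun g hg => hj g w hg hw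
    rwa [hc w hw] at h

theorem n7 : 420 * Nat.card {g : G // orderOf g = 7} ≤ Nat.card G := number card7 conj7
theorem n14 : 28 * Nat.card {g : G // orderOf g = 14} ≤ Nat.card G := number card14 conj14
theorem n21 : 21 * Nat.card {g : G // orderOf g = 21} ≤ Nat.card G := number card21 conj21

/-! ### The prime 11 -/

theorem f11 : Fact (Nat.Prime 11) := ⟨by norm_num⟩
theorem sq11 : ¬ 11 ^ 2 ∣ Nat.card G := by rw [card_G]; norm_num

theorem card11 : ∀ g : G, orderOf g = 11 → Nat.card (centralizer ({g} : Set G)) = 22 := fun _ hg =>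
  Cfsg.Agent.H315.PwHN.card_eleven hg

/-- the data for 11 -/
theorem dp11 : ∃ (x t : G), DP 11 x (zpowers t) ∧ orderOf t = 2 ∧ ∀ y : G, orderOf y = 11 → IsConj x y := by
  have := f11
  obtain ⟨x, hx⟩ := Cfsg.Agent.H315.PwHN.exists11
  have f2 : Fact (Nat.Prime 2) := ⟨Nat.prime_two⟩
  obtain ⟨t, ht⟩ := exists_prime_orderOf_dvd_card' (G := centralizer ({x} : Set G)) 2 (by rw [card11 x hx]; norm_num)
  have ho : orderOf (t : G) = 2 := by rw [Subgroup.orderOf_coe, ht]
  have hK : Nat.card (zpowers (t : G)) = 2 := by rw [Nat.card_zpowers, ho]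
  refine ⟨x, t, ⟨by norm_num, hx, ?_, by rw [card11 x hx, hK], by rw [hK]; norm_num⟩, ho, fun y hy => ?_⟩
  · rintro _ ⟨i, rfl⟩
    exact ((show Commute (t : G) x from mem_centralizer_singleton_iff.1 t.2).zpow_left i).eq
  · have h1 := card_normalizer_eq (e := 10) (n := 12410496000000) (K := 2) sq11 hx (by rw [card11 x hx])
      (by rw [card_G]) (by norm_num) (by norm_num) (by norm_num)
    refine conj_prime sq11 hx hy ?_
    rw [h1, H904.SylOne.centralizer_zpowers_eq, card11 x hx]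

theorem order_zp {t a : G} (ht : orderOf t = 2) (ha : a ∈ zpowers t) : a = 1 ∨ a = t := by
  classical
  rw [mem_zpowers_iff_mem_range_orderOf, ht] at ha
  obtain ⟨i, hi, rfl⟩ := Finset.mem_image.1 ha
  have h := Finset.mem_range.1 hi
  interval_cases i
  · left; exact pow_zero t
  · right; exact pow_one t

theorem ord11 : ∀ g : G, 11 ∣ orderOf g → orderOf g = 11 ∨ orderOf g = 22 := by
  intro g h
  obtain ⟨x, t, D, ht, hall⟩ := dp11
  obtain ⟨a, ha, -, ho⟩ := D.exists_conj hall h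
  rcases order_zp ht ha with rfl | rfl
  · left; rw [ho, orderOf_one]
  · right; rw [ho, ht]

theorem conj11 : ∀ g h : G, orderOf g = 11 → orderOf h = 11 → IsConj g h := by
  obtain ⟨x, t, D, ht, hall⟩ := dp11
  exact fun g h hg hh => (hall g hg).symm.trans (hall h hh)

theorem conj22 : ∀ g h : G, orderOf g = 22 → orderOf h = 22 → IsConj g h := by
  obtain ⟨x, t, D, ht, hall⟩ := dp11
  have key : ∀ g : G, orderOf g = 22 → IsConj (x * t) g := by
    intro g hg
    obtain ⟨a, ha, h1, h2⟩ := D.exists_conj hall (y := g) (by rw [hg]; norm_num)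
    rcases order_zp ht ha with rfl | rfl
    · rw [hg, orderOf_one] at h2; omega
    · exact h1
  exact fun g h hg hh => (key g hg).symm.trans (key h hh)

theorem card22 : ∀ g : G, orderOf g = 22 → Nat.card (centralizer ({g} : Set G)) = 22 := by
  obtain ⟨x, t, D, ht, hall⟩ := dp11
  intro g hg
  obtain ⟨a, ha, h1, h2⟩ := D.exists_conj hall (y := g) (by rw [hg]; norm_num)
  rcases order_zp ht ha with rfl | rfl
  · rw [hg, orderOf_one] at h2; omega
  · have h3 := D.card_cent (i := 1) (by norm_num) ha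
    have h4 : zpowers a ⊓ centralizer ({a} : Set G) = zpowers a := by
      refine le_antisymm inf_le_left (le_inf le_rfl ?_)
      rw [zpowers_le, mem_centralizer_singleton_iff]
    rw [pow_one, h4, Nat.card_zpowers, ht] at h3
    rw [Cfsg.Agent.H871.Th7.card_cent_conj h1.symm, h3]

theorem n11 : 22 * Nat.card {g : G // orderOf g = 11} ≤ Nat.card G := number card11 conj11
theorem n22 : 22 * Nat.card {g : G // orderOf g = 22} ≤ Nat.card G := number card22 conj22

/-! ### The prime 19 -/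

theorem card19 : ∀ g : G, orderOf g = 19 → Nat.card (centralizer ({g} : Set G)) = 19 := fun _ hg =>
  Cfsg.Agent.H315.PwHN.card_nineteen hg

theorem ord19 : ∀ g : G, 19 ∣ orderOf g → orderOf g = 19 := by
  intro g h
  have hp : orderOf (g ^ (orderOf g / 19)) = 19 := orderOf_pow_orderOf_div (orderOf_pos g).ne' h
  have h1 : g ∈ centralizer ({g ^ (orderOf g / 19)} : Set G) :=
    mem_centralizer_singleton_iff.2 (pow_mul_comm' g _).symm
  have h2 := orderOf_dvd_natCard (⟨g, h1⟩ : centralizer ({g ^ (orderOf g / 19)} : Set G))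
  rw [Subgroup.orderOf_mk, card19 _ hp] at h2
  rcases (Nat.dvd_prime (by norm_num)).1 h2 with h3 | h3
  · rw [h3] at h; norm_num at h
  · exact h3

end Cfsg.Agent.H651.HNF
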