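import Cfsg.Agent.H651.HNF.Table

/-!
# The class table of HN from centralizer orders (helper651, (M,23))

`tyOf o c` : the type from the order and the order of the centralizer; `Raw H` : the facts in terms of orders and centralizer
orders; `Raw.table` : the table (except for `num`, which is an input).
-/

set_option autoImplicit false

namespace Cfsg.Agent.H651.HNF

open Subgroup

/-- the type from the order and the order of the centralizer -/
def tyOf (o c : ℕ) : Ty :=
  if o % 5 = 0 then .sing else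
  match o with
  | 1 => .c1
  | 2 => if c = 177408000 then .c2A else .c2B
  | 3 => if c = 544320 then .c3A else .c3B
  | 4 => if c = 15360 then .c4A else if c = 5760 then .c4B else .c4C
  | 6 => if c = 1440 then .c6A else if c = 576 then .c6B else .c6C
  | 7 => .c7
  | 8 => if c = 80 then .c8A else .c8B
  | 9 => .c9
  | 11 => .c11
  | 12 => if c = 72 then .c12A else if c = 48 then .c12B else .c12C
  | 14 => .c14
  | 19 => .c19
  | 21 => .c21
  | 22 => .c22
  | _ => .sing

section
variable {H : Type} [Group H]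

/-- the order of the centralizer -/
noncomputable def cn (g : H) : ℕ := Nat.card (centralizer ({g} : Set H))

/-- the type -/
noncomputable def tyH (g : H) : Ty := tyOf (orderOf g) (cn g)

/-- the facts -/
structure Raw (H : Type) [Group H] : Prop where
  card : Nat.card H = 273030912000000
  cover : ∀ g : H, ¬ 5 ∣ orderOf g → orderOf g ∈ ({1, 2, 3, 4, 6, 7, 8, 9, 11, 12, 14, 19, 21, 22} : Finset ℕ)
  r2 : ∀ g : H, orderOf g = 2 → cn g = 177408000 ∨ cn g = 3686400
  r3 : ∀ g : H, orderOf g = 3 → cn g = 544320 ∨ cn g = 29160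
  r4 : ∀ g : H, orderOf g = 4 → (cn (g ^ 2) = 3686400 ∧ cn g = 15360) ∨ (cn (g ^ 2) = 177408000 ∧ cn g = 5760) ∨
    (cn (g ^ 2) = 3686400 ∧ cn g = 3840)
  r6 : ∀ g : H, orderOf g = 6 → (cn (g ^ 3) = 177408000 ∧ cn (g ^ 2) = 544320 ∧ cn g = 1440) ∨
    (cn (g ^ 3) = 3686400 ∧ cn (g ^ 2) = 544320 ∧ cn g = 576) ∨ (cn (g ^ 3) = 3686400 ∧ cn (g ^ 2) = 29160 ∧ cn g = 360)
  r7 : ∀ g : H, orderOf g = 7 → cn g = 420
  r8 : ∀ g : H, orderOf g = 8 → (cn (g ^ 2) = 5760 ∧ cn g = 80) ∨ (cn (g ^ 2) = 15360 ∧ cn g = 64)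
  r9 : ∀ g : H, orderOf g = 9 → cn (g ^ 3) = 29160 ∧ cn g = 27
  r11 : ∀ g : H, orderOf g = 11 → cn g = 22
  r12 : ∀ g : H, orderOf g = 12 → (cn (g ^ 2) = 1440 ∧ cn (g ^ 3) = 5760 ∧ cn g = 72) ∨
    (cn (g ^ 2) = 576 ∧ cn (g ^ 3) = 15360 ∧ cn g = 48) ∨ (cn (g ^ 2) = 360 ∧ cn (g ^ 3) = 3840 ∧ cn g = 12)
  r14 : ∀ g : H, orderOf g = 14 → cn g = 28
  r19 : ∀ g : H, orderOf g = 19 → cn g = 19
  r21 : ∀ g : H, orderOf g = 21 → cn g = 21
  r22 : ∀ g : H, orderOf g = 22 → cn g = 22
  conj : ∀ g h : H, orderOf g = orderOf h → cn g = cn h → ¬ 5 ∣ orderOf g → orderOf g ≠ 19 → IsConj g h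

/-! ### powers -/

theorem cn_eq {g h : H} (hs : ∀ c : H, Commute c g ↔ Commute c h) : cn g = cn h := by
  have : centralizer ({g} : Set H) = centralizer ({h} : Set H) := by
    ext c
    rw [mem_centralizer_singleton_iff, mem_centralizer_singleton_iff]
    exact hs c
  unfold cn
  rw [this]

variable [Finite H]

theorem cn_pow {g : H} {m : ℕ} (hm : m.Coprime (orderOf g)) : cn (g ^ m) = cn g := by
  apply cn_eq
  intro c
  refine ⟨fun h => ?_, fun h => h.pow_right m⟩
  have h0 := orderOf_pos g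
  by_cases h1 : orderOf g = 1
  · rw [orderOf_eq_one_iff.1 h1]; exact Commute.one_right c
  obtain ⟨k, -, hk⟩ := Nat.exists_mul_mod_eq_one_of_coprime hm (by omega)
  have h2 : (g ^ m) ^ k = g := by
    rw [← pow_mul, ← pow_mod_orderOf, hk, pow_one]
  rw [← h2]
  exact h.pow_right k

theorem ord_pow {g : H} {m : ℕ} (hm : m.Coprime (orderOf g)) : orderOf (g ^ m) = orderOf g := by
  rw [orderOf_pow, Nat.Coprime.gcd_eq_one hm.symm, Nat.div_one]

theorem tyH_pow {g : H} {m : ℕ} (hm : m.Coprime (orderOf g)) : tyH (g ^ m) = tyH g := by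
  unfold tyH
  rw [cn_pow hm, ord_pow hm]

omit [Finite H] in
theorem tyH_of {g : H} {o c : ℕ} (ho : orderOf g = o) (hc : cn g = c) : tyH g = tyOf o c := by
  unfold tyH
  rw [ho, hc]

omit [Finite H] in
theorem cn_dvd_of_comm {g h : H} (hc : Commute g h) : orderOf h ∣ cn g := by
  have h1 : h ∈ centralizer ({g} : Set H) := mem_centralizer_singleton_iff.2 hc.symm.eq
  rw [← Subgroup.orderOf_mk h h1]
  exact orderOf_dvd_natCard _

end

namespace Ty

/-- the primes -/
theorem pw_of_not_dvd : ∀ t : Ty, ∀ p ∈ ([2, 3, 7, 11, 19] : List ℕ), ¬ p ∣ ord t → t ≠ sing → pw p t = t := by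
  decide +kernel

theorem ord_dvd : ∀ t : Ty, t ≠ sing → ∀ p ∈ Nat.primeFactors (ord t), p ∈ ([2, 3, 7, 11, 19] : List ℕ) := by
  decide +kernel

theorem pw_cop {t : Ty} {p : ℕ} (h : ¬ p ∣ ord t) (ht : t ≠ sing) : pw p t = t := by
  by_cases h1 : p ∈ ([2, 3, 7, 11, 19] : List ℕ)
  · exact pw_of_not_dvd t p h1 h ht
  · simp only [List.mem_cons, List.not_mem_nil, or_false, not_or] at h1
    obtain ⟨h2, h3, h7, h11, h19⟩ := h1
    unfold pw
    rw [if_neg h2, if_neg h3, if_neg h7, if_neg h11, if_neg h19]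

end Ty

namespace Raw

variable {H : Type} [Group H] [Finite H]

/-- **the rows of the table** -/
theorem rows (R : Raw H) (g : H) (h5 : ¬ 5 ∣ orderOf g) :
    tyH g ≠ .sing ∧ orderOf g = (tyH g).ord ∧ cn g = (tyH g).cen := by
  have hc := R.cover g h5
  simp only [Finset.mem_insert, Finset.mem_singleton] at hc
  have key : ∀ {o c : ℕ} (t : Ty), orderOf g = o → cn g = c → tyOf o c = t → t ≠ .sing → o = t.ord → c = t.cen →
      tyH g ≠ .sing ∧ orderOf g = (tyH g).ord ∧ cn g = (tyH g).cen := by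
    intro o c t ho hc ht h1 h2 h3
    rw [tyH_of ho hc, ht]
    exact ⟨h1, ho.trans h2, hc.trans h3⟩
  rcases hc with h | h | h | h | h | h | h | h | h | h | h | h | h | h
  · refine key .c1 h (c := 273030912000000) ?_ rfl (by decide) rfl rfl
    rw [← R.card, orderOf_eq_one_iff.1 h]
    unfold cn
    have : centralizer ({(1 : H)} : Set H) = ⊤ := by
      ext c
      simp [mem_centralizer_singleton_iff]
    rw [this, Subgroup.card_top]
  · rcases R.r2 g h with h1 | h1
    · exact key .c2A h h1 rfl (by decide) rfl rfl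
    · exact key .c2B h h1 rfl (by decide) rfl rfl
  · rcases R.r3 g h with h1 | h1
    · exact key .c3A h h1 rfl (by decide) rfl rfl
    · exact key .c3B h h1 rfl (by decide) rfl rfl
  · rcases R.r4 g h with ⟨-, h1⟩ | ⟨-, h1⟩ | ⟨-, h1⟩
    · exact key .c4A h h1 rfl (by decide) rfl rfl
    · exact key .c4B h h1 rfl (by decide) rfl rfl
    · exact key .c4C h h1 rfl (by decide) rfl rfl
  · rcases R.r6 g h with ⟨-, -, h1⟩ | ⟨-, -, h1⟩ | ⟨-, -, h1⟩
    · exact key .c6A h h1 rfl (by decide) rfl rfl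
    · exact key .c6B h h1 rfl (by decide) rfl rfl
    · exact key .c6C h h1 rfl (by decide) rfl rfl
  · exact key .c7 h (R.r7 g h) rfl (by decide) rfl rfl
  · rcases R.r8 g h with ⟨-, h1⟩ | ⟨-, h1⟩
    · exact key .c8A h h1 rfl (by decide) rfl rfl
    · exact key .c8B h h1 rfl (by decide) rfl rfl
  · exact key .c9 h (R.r9 g h).2 rfl (by decide) rfl rfl
  · exact key .c11 h (R.r11 g h) rfl (by decide) rfl rfl
  · rcases R.r12 g h with ⟨-, -, h1⟩ | ⟨-, -, h1⟩ | ⟨-, -, h1⟩
    · exact key .c12A h h1 rfl (by decide) rfl rfl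
    · exact key .c12B h h1 rfl (by decide) rfl rfl
    · exact key .c12C h h1 rfl (by decide) rfl rfl
  · exact key .c14 h (R.r14 g h) rfl (by decide) rfl rfl
  · exact key .c19 h (R.r19 g h) rfl (by decide) rfl rfl
  · exact key .c21 h (R.r21 g h) rfl (by decide) rfl rfl
  · exact key .c22 h (R.r22 g h) rfl (by decide) rfl rfl

theorem sing_iff (R : Raw H) (g : H) : tyH g = .sing ↔ 5 ∣ orderOf g := by
  constructor
  · intro h
    by_contra hc
    exact (R.rows g hc).1 h
  · intro h
    unfold tyH tyOf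
    rw [if_pos (Nat.mod_eq_zero_of_dvd h)]

/-- powers with exponent dividing the order -/
theorem pow_dvd (R : Raw H) (g : H) (p : ℕ) (hp : p.Prime) (h5 : ¬ 5 ∣ orderOf g) (hd : p ∣ orderOf g) :
    tyH (g ^ p) = (tyH g).pw p := by
  have hc := R.cover g h5
  simp only [Finset.mem_insert, Finset.mem_singleton] at hc
  have hord : ∀ {n m : ℕ}, orderOf g = n → p * m = n → orderOf (g ^ p) = m := by
    intro n m hn hm
    rw [orderOf_pow, hn, ← hm, Nat.gcd_eq_right (dvd_mul_right p m), Nat.mul_div_cancel_left _ hp.pos]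
  have pe : ∀ {n : ℕ}, orderOf g = n → p ∈ n.primeFactors := by
    intro n hn
    rw [Nat.mem_primeFactors]
    exact ⟨hp, hn ▸ hd, hn ▸ (orderOf_pos g).ne'⟩
  have comm : ∀ k : ℕ, orderOf g ∣ cn (g ^ k) := fun k =>
    cn_dvd_of_comm ((Commute.refl g).pow_left k)
  rcases hc with h | h | h | h | h | h | h | h | h | h | h | h | h | h
  · have := pe h
    rw [show Nat.primeFactors 1 = ∅ by decide +kernel] at this
    simp at this
  · have := pe h
    rw [show Nat.primeFactors 2 = {2} by decide +kernel, Finset.mem_singleton] at this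
    subst this
    have e : tyH (g ^ 2) = .c1 := by
      have h1 := hord h (m := 1) rfl
      have h2 := R.rows (g ^ 2) (by rw [h1]; norm_num)
      unfold tyH
      rw [h1]; rfl
    rw [e]
    rcases R.r2 g h with h1 | h1 <;> (rw [tyH_of h h1]; rfl)
  · have := pe h
    rw [show Nat.primeFactors 3 = {3} by decide +kernel, Finset.mem_singleton] at this
    subst this
    have e : tyH (g ^ 3) = .c1 := by
      have h1 := hord h (m := 1) rfl
      unfold tyH
      rw [h1]; rfl
    rw [e]
    rcases R.r3 g h with h1 | h1 <;> (rw [tyH_of h h1]; rfl)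
  · have := pe h
    rw [show Nat.primeFactors 4 = {2} by decide +kernel, Finset.mem_singleton] at this
    subst this
    rcases R.r4 g h with ⟨h0, h1⟩ | ⟨h0, h1⟩ | ⟨h0, h1⟩ <;>
      (rw [tyH_of h h1, tyH_of (hord h (m := 2) rfl) h0]; rfl)
  · have := pe h
    rw [show Nat.primeFactors 6 = {2, 3} by decide +kernel, Finset.mem_insert, Finset.mem_singleton] at this
    rcases this with rfl | rfl
    · rcases R.r6 g h with ⟨-, h0, h1⟩ | ⟨-, h0, h1⟩ | ⟨-, h0, h1⟩ <;>
        (rw [tyH_of h h1, tyH_of (hord h (m := 3) rfl) h0]; rfl)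
    · rcases R.r6 g h with ⟨h0, -, h1⟩ | ⟨h0, -, h1⟩ | ⟨h0, -, h1⟩ <;>
        (rw [tyH_of h h1, tyH_of (hord h (m := 2) rfl) h0]; rfl)
  · have := pe h
    rw [show Nat.primeFactors 7 = {7} by decide +kernel, Finset.mem_singleton] at this
    subst this
    have e : tyH (g ^ 7) = .c1 := by
      have h1 := hord h (m := 1) rfl
      unfold tyH
      rw [h1]; rfl
    rw [e, tyH_of h (R.r7 g h)]; rfl
  · have := pe h
    rw [show Nat.primeFactors 8 = {2} by decide +kernel, Finset.mem_singleton] at this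
    subst this
    rcases R.r8 g h with ⟨h0, h1⟩ | ⟨h0, h1⟩ <;>
      (rw [tyH_of h h1, tyH_of (hord h (m := 4) rfl) h0]; rfl)
  · have := pe h
    rw [show Nat.primeFactors 9 = {3} by decide +kernel, Finset.mem_singleton] at this
    subst this
    rw [tyH_of h (R.r9 g h).2, tyH_of (hord h (m := 3) rfl) (R.r9 g h).1]; rfl
  · have := pe h
    rw [show Nat.primeFactors 11 = {11} by decide +kernel, Finset.mem_singleton] at this
    subst this
    have e : tyH (g ^ 11) = .c1 := by
      have h1 := hord h (m := 1) rfl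
      unfold tyH
      rw [h1]; rfl
    rw [e, tyH_of h (R.r11 g h)]; rfl
  · have := pe h
    rw [show Nat.primeFactors 12 = {2, 3} by decide +kernel, Finset.mem_insert, Finset.mem_singleton] at this
    rcases this with rfl | rfl
    · rcases R.r12 g h with ⟨h0, -, h1⟩ | ⟨h0, -, h1⟩ | ⟨h0, -, h1⟩ <;>
        (rw [tyH_of h h1, tyH_of (hord h (m := 6) rfl) h0]; rfl)
    · rcases R.r12 g h with ⟨-, h0, h1⟩ | ⟨-, h0, h1⟩ | ⟨-, h0, h1⟩ <;>
        (rw [tyH_of h h1, tyH_of (hord h (m := 4) rfl) h0]; rfl)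
  · have := pe h
    rw [show Nat.primeFactors 14 = {2, 7} by decide +kernel, Finset.mem_insert, Finset.mem_singleton] at this
    rcases this with rfl | rfl
    · have h1 := hord h (m := 7) rfl
      rw [tyH_of h (R.r14 g h), tyH_of h1 (R.r7 _ h1)]; rfl
    · have h1 := hord h (m := 2) rfl
      have h2 : cn (g ^ 7) = 177408000 := by
        rcases R.r2 _ h1 with h2 | h2
        · exact h2
        · exfalso
          have h3 := comm 7
          rw [h, h2] at h3
          norm_num at h3
      rw [tyH_of h (R.r14 g h), tyH_of h1 h2]; rfl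
  · have := pe h
    rw [show Nat.primeFactors 19 = {19} by decide +kernel, Finset.mem_singleton] at this
    subst this
    have e : tyH (g ^ 19) = .c1 := by
      have h1 := hord h (m := 1) rfl
      unfold tyH
      rw [h1]; rfl
    rw [e, tyH_of h (R.r19 g h)]; rfl
  · have := pe h
    rw [show Nat.primeFactors 21 = {3, 7} by decide +kernel, Finset.mem_insert, Finset.mem_singleton] at this
    rcases this with rfl | rfl
    · have h1 := hord h (m := 7) rfl
      rw [tyH_of h (R.r21 g h), tyH_of h1 (R.r7 _ h1)]; rfl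
    · have h1 := hord h (m := 3) rfl
      have h2 : cn (g ^ 7) = 544320 := by
        rcases R.r3 _ h1 with h2 | h2
        · exact h2
        · exfalso
          have h3 := comm 7
          rw [h, h2] at h3
          norm_num at h3
      rw [tyH_of h (R.r21 g h), tyH_of h1 h2]; rfl
  · have := pe h
    rw [show Nat.primeFactors 22 = {2, 11} by decide +kernel, Finset.mem_insert, Finset.mem_singleton] at this
    rcases this with rfl | rfl
    · have h1 := hord h (m := 11) rfl
      rw [tyH_of h (R.r22 g h), tyH_of h1 (R.r11 _ h1)]; rfl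
    · have h1 := hord h (m := 2) rfl
      have h2 : cn (g ^ 11) = 177408000 := by
        rcases R.r2 _ h1 with h2 | h2
        · exact h2
        · exfalso
          have h3 := comm 11
          rw [h, h2] at h3
          norm_num at h3
      rw [tyH_of h (R.r22 g h), tyH_of h1 h2]; rfl

/-- **the table** -/
theorem table (R : Raw H) (hnum : ∀ t : Ty, t ≠ .sing → Nat.card {g : H // tyH g = t} = t.num) : Table H tyH where
  card := R.card
  sing := R.sing_iff
  ord g hg := (R.rows g (fun h => hg ((R.sing_iff g).2 h))).2.1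
  cent g hg := (R.rows g (fun h => hg ((R.sing_iff g).2 h))).2.2
  inv := by
    intro g h hc
    obtain ⟨c, rfl⟩ := isConj_iff.1 hc
    have e1 : orderOf (c * g * c⁻¹) = orderOf g := MulEquiv.orderOf_eq (MulAut.conj c) g
    have e2 : cn (c * g * c⁻¹) = cn g := by
      unfold cn
      refine Nat.card_congr ⟨fun u => ⟨c⁻¹ * u * c, ?_⟩, fun u => ⟨c * u * c⁻¹, ?_⟩, fun u => ?_, fun u => ?_⟩
      · have h := mem_centralizer_singleton_iff.1 u.2
        rw [mem_centralizer_singleton_iff]
        calc c⁻¹ * (u : H) * c * g = c⁻¹ * ((u : H) * (c * g * c⁻¹)) * c := by group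
          _ = g * (c⁻¹ * u * c) := by rw [h]; group
      · have h := mem_centralizer_singleton_iff.1 u.2
        rw [mem_centralizer_singleton_iff]
        calc c * (u : H) * c⁻¹ * (c * g * c⁻¹) = c * ((u : H) * g) * c⁻¹ := by group
          _ = c * g * c⁻¹ * (c * u * c⁻¹) := by rw [h]; group
      · apply Subtype.ext
        show c * (c⁻¹ * (u : H) * c) * c⁻¹ = u
        group
      · apply Subtype.ext
        show c⁻¹ * (c * (u : H) * c⁻¹) * c = u
        group
    unfold tyH
    rw [e1, e2]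
  conj := by
    intro g h hgh hg h19
    have h1 := R.rows g (fun h => hg ((R.sing_iff g).2 h))
    have h2 := R.rows h (fun h' => hg (hgh.trans ((R.sing_iff h).2 h')))
    refine R.conj g h ?_ ?_ (fun h => hg ((R.sing_iff g).2 h)) ?_
    · rw [h1.2.1, h2.2.1, hgh]
    · rw [h1.2.2, h2.2.2, hgh]
    · intro h3
      apply h19
      rw [tyH_of h3 (R.r19 g h3)]
      rfl
  pow := by
    intro g p hp hg
    have h5 : ¬ 5 ∣ orderOf g := fun h => hg ((R.sing_iff g).2 h)
    by_cases hd : p ∣ orderOf g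
    · exact R.pow_dvd g p hp h5 hd
    · rw [tyH_pow (hp.coprime_iff_not_dvd.2 hd), Ty.pw_cop _ hg]
      rw [← (R.rows g h5).2.1]
      exact hd
  real := fun g _ m hm => tyH_pow hm
  num := hnum

end Raw

end Cfsg.Agent.H651.HNF
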