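import Mathlib

/-!
# The 5-regular classes of the Harada-Norton group: interface (helper651, for (M,23) of S4929)

`Ty` : the classes of elements of order prime to 5 (`19A` and `19B` together), and `sing` for the other elements; `Ty.ord`, `Ty.cen`
(order of the centralizer), `Ty.pw` (power maps), `Ty.num` (number of elements), `Ty.b`, `Ty.th` (values of `β` and of `θ`).
`Table H ty` : the facts. The theorem for `Spor.HN` is in `H651/HNF/Main.lean`.
-/

set_option autoImplicit false

namespace Cfsg.Agent.H651.HNF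

/-- the types of elements -/
inductive Ty
  | sing | c1 | c2A | c2B | c3A | c3B | c4A | c4B | c4C | c6A | c6B | c6C | c7 | c8A | c8B | c9 | c11 | c12A | c12B | c12C | c14 | c19 | c21 | c22
  deriving DecidableEq

namespace Ty

/-- all types -/
def all : List Ty := [sing, c1, c2A, c2B, c3A, c3B, c4A, c4B, c4C, c6A, c6B, c6C, c7, c8A, c8B, c9, c11, c12A, c12B, c12C, c14, c19, c21, c22]

theorem mem_all : ∀ t : Ty, t ∈ all := by intro t; cases t <;> decide +kernel

instance : Fintype Ty where
  elems := ⟨(all : Multiset Ty), by decide +kernel⟩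
  complete t := mem_all t

/-- the order of the elements (0 for `sing`) -/
def ord : Ty → ℕ
  | sing => 0
  | c1 => 1 | c2A => 2 | c2B => 2 | c3A => 3 | c3B => 3 | c4A => 4 | c4B => 4 | c4C => 4 | c6A => 6 | c6B => 6 | c6C => 6 | c7 => 7 | c8A => 8 | c8B => 8 | c9 => 9 | c11 => 11 | c12A => 12 | c12B => 12 | c12C => 12 | c14 => 14 | c19 => 19 | c21 => 21 | c22 => 22

/-- the order of the centralizer (0 for `sing`) -/
def cen : Ty → ℕ
  | sing => 0
  | c1 => 273030912000000
  | c2A => 177408000
  | c2B => 3686400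
  | c3A => 544320
  | c3B => 29160
  | c4A => 15360
  | c4B => 5760
  | c4C => 3840
  | c6A => 1440
  | c6B => 576
  | c6C => 360
  | c7 => 420
  | c8A => 80
  | c8B => 64
  | c9 => 27
  | c11 => 22
  | c12A => 72
  | c12B => 48
  | c12C => 12
  | c14 => 28
  | c19 => 19
  | c21 => 21
  | c22 => 22

/-- the number of elements (0 for `sing`) -/
def num : Ty → ℕ
  | sing => 0
  | c1 => 1
  | c2A => 1539000
  | c2B => 74064375
  | c3A => 501600000
  | c3B => 9363200000
  | c4A => 17775450000
  | c4B => 47401200000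
  | c4C => 71101800000
  | c6A => 189604800000
  | c6B => 474012000000
  | c6C => 758419200000
  | c7 => 650073600000
  | c8A => 3412886400000
  | c8B => 4266108000000
  | c9 => 10112256000000
  | c11 => 12410496000000
  | c12A => 3792096000000
  | c12B => 5688144000000
  | c12C => 22752576000000
  | c14 => 9751104000000
  | c19 => 28740096000000
  | c21 => 13001472000000
  | c22 => 12410496000000

/-- squares -/
def sq : Ty → Ty
  | sing => sing
  | c1 => c1 | c2A => c1 | c2B => c1 | c3A => c3A | c3B => c3B | c4A => c2B | c4B => c2A | c4C => c2B | c6A => c3A | c6B => c3A | c6C => c3B | c7 => c7 | c8A => c4B | c8B => c4A | c9 => c9 | c11 => c11 | c12A => c6A | c12B => c6B | c12C => c6C | c14 => c7 | c19 => c19 | c21 => c21 | c22 => c11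

/-- cubes -/
def cu : Ty → Ty
  | sing => sing
  | c1 => c1 | c2A => c2A | c2B => c2B | c3A => c1 | c3B => c1 | c4A => c4A | c4B => c4B | c4C => c4C | c6A => c2A | c6B => c2B | c6C => c2B | c7 => c7 | c8A => c8A | c8B => c8B | c9 => c3B | c11 => c11 | c12A => c4B | c12B => c4A | c12C => c4C | c14 => c14 | c19 => c19 | c21 => c7 | c22 => c22

/-- power maps for primes `p ≠ 5` -/
def pw (p : ℕ) (t : Ty) : Ty :=
  if p = 2 then sq t else if p = 3 then cu t else
  if p = 7 then (match t with | c7 => c1 | c14 => c2A | c21 => c3A | t => t) else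
  if p = 11 then (match t with | c11 => c1 | c22 => c2A | t => t) else
  if p = 19 then (match t with | c19 => c1 | t => t) else t

/-- the values of `β` (the 5-modular character of degree 133) -/
def b : Ty → ℤ
  | sing => 0
  | c1 => 133 | c2A => 21 | c2B => 5 | c3A => 7 | c3B => -2 | c4A => 5 | c4B => 1 | c4C => -3 | c6A => 3 | c6B => -1 | c6C => 2 | c7 => 0 | c8A => -1 | c8B => 1 | c9 => 1 | c11 => 1 | c12A => 1 | c12B => -1 | c12C => 0 | c14 => 0 | c19 => 0 | c21 => 0 | c22 => -1

/-- the values of `θ` (on the 5-regular elements) -/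
def th : Ty → ℤ
  | sing => 0
  | c1 => 2375000 | c2A => -1000 | c2B => 600 | c3A => -190 | c3B => 80 | c4A => 40 | c4B => 0 | c4C => 0 | c6A => -10 | c6B => -6 | c6C => 0 | c7 => 5 | c8A => 0 | c8B => 0 | c9 => -1 | c11 => 1 | c12A => 0 | c12B => -2 | c12C => 0 | c14 => 1 | c19 => 0 | c21 => -1 | c22 => 1

theorem num_mul : ∀ t : Ty, t ≠ sing → num t * cen t = (if t = c19 then 2 else 1) * 273030912000000 := by decide +kernel

end Ty

/-- **the class table** -/
structure Table (H : Type) [Group H] (ty : H → Ty) : Prop where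
  card : Nat.card H = 273030912000000
  sing : ∀ g, ty g = .sing ↔ 5 ∣ orderOf g
  ord : ∀ g, ty g ≠ .sing → orderOf g = (ty g).ord
  cent : ∀ g, ty g ≠ .sing → Nat.card (Subgroup.centralizer ({g} : Set H)) = (ty g).cen
  inv : ∀ g h, IsConj g h → ty g = ty h
  conj : ∀ g h, ty g = ty h → ty g ≠ .sing → ty g ≠ .c19 → IsConj g h
  pow : ∀ g p, p.Prime → ty g ≠ .sing → ty (g ^ p) = (ty g).pw p
  real : ∀ g, ty g ≠ .sing → ∀ m : ℕ, m.Coprime (orderOf g) → ty (g ^ m) = ty g
  num : ∀ t, t ≠ .sing → Nat.card {g : H // ty g = t} = t.num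

end Cfsg.Agent.H651.HNF
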