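import Cfsg.Agent.H651.HNF.Big
import Cfsg.Agent.H569.HNThree
import Cfsg.Agent.H789.Ore.HNComp

/-!
# The orders of the 5-regular elements of the Harada-Norton group (helper651, (M,23))
-/

set_option autoImplicit false

namespace Cfsg.Agent.H651.HNF

open Subgroup Cfsg
open Cfsg.Agent.H569.HNThree (exp_three)

theorem dvd_72 : ∀ n ∈ Nat.divisors 72, ¬ 18 ∣ n → ¬ 24 ∣ n → n ∈ ({1, 2, 3, 4, 6, 8, 9, 12} : Finset ℕ) := by
  decide +kernel

theorem order_div (g : Spor.HN) {k : ℕ} (hk : k ∣ orderOf g) : orderOf (g ^ (orderOf g / k)) = k := by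
  have h0 : orderOf g ≠ 0 := (orderOf_pos g).ne'
  obtain ⟨m, hm⟩ := hk
  have hk0 : 0 < k := Nat.pos_of_ne_zero (by rintro rfl; exact h0 (by rw [hm, zero_mul]))
  have hm0 : 0 < m := Nat.pos_of_ne_zero (by rintro rfl; exact h0 (by rw [hm, mul_zero]))
  rw [orderOf_pow, hm, Nat.mul_div_cancel_left _ hk0, Nat.gcd_eq_right (dvd_mul_left m k), Nat.mul_div_cancel _ hm0]

/-- no elements of order 18 -/
theorem not18 (g : Spor.HN) : ¬ 18 ∣ orderOf g := by
  intro h
  set x := g ^ (orderOf g / 18) with hx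
  have hx18 : orderOf x = 18 := order_div g h
  have h2 : orderOf (x ^ 9) = 2 := by rw [orderOf_pow, hx18]; norm_num
  have h9 : orderOf (x ^ 2) = 9 := by rw [orderOf_pow, hx18]; norm_num
  have h3 := exp_three (y := x ^ 2) (t := x ^ 9) ⟨2, by
    rw [show (3 : ℕ) ^ 2 = 9 by norm_num, ← h9, pow_orderOf_eq_one]⟩ h2 (by rw [← pow_add, ← pow_add, add_comm])
  have h4 := orderOf_dvd_of_pow_eq_one h3
  rw [h9] at h4
  norm_num at h4

/-- no elements of order 27 -/
theorem not27 (g : Spor.HN) : ¬ 27 ∣ orderOf g := by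
  intro h
  have hx := order_div g h
  have h3 := Cfsg.Agent.H789.Ore.HNComp.pow_nine (g := g ^ (orderOf g / 27)) (n := 3) (by
    rw [show (3 : ℕ) ^ 3 = 27 by norm_num]
    have h1 := pow_orderOf_eq_one (g ^ (orderOf g / 27))
    rwa [hx] at h1)
  have h4 := orderOf_dvd_of_pow_eq_one h3
  rw [hx] at h4
  norm_num at h4

/-- **the orders of the elements of order prime to 5** -/
theorem order_cover (h16 : ∀ x : Spor.HN, orderOf x ≠ 16) (h24 : ∀ x : Spor.HN, orderOf x ≠ 24) (g : Spor.HN)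
    (h5 : ¬ 5 ∣ orderOf g) : orderOf g ∈ ({1, 2, 3, 4, 6, 7, 8, 9, 11, 12, 14, 19, 21, 22} : Finset ℕ) := by
  by_cases h7 : 7 ∣ orderOf g
  · rcases ord7 g h7 h5 with h | h | h <;> (rw [h]; decide)
  by_cases h11 : 11 ∣ orderOf g
  · rcases ord11 g h11 with h | h <;> (rw [h]; decide)
  by_cases h19 : 19 ∣ orderOf g
  · rw [ord19 g h19]; decide
  have h0 : orderOf g ∣ 273030912000000 := by
    rw [← card_G]; exact orderOf_dvd_natCard g
  have hs : orderOf g ∣ 2 ^ 14 * 3 ^ 6 := by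
    have e : (273030912000000 : ℕ) = 2 ^ 14 * 3 ^ 6 * (5 ^ 6 * (7 * (11 * 19))) := by norm_num
    rw [e] at h0
    refine Nat.Coprime.dvd_of_dvd_mul_right ?_ h0
    have c5 : Nat.Coprime (orderOf g) 5 := ((Nat.Prime.coprime_iff_not_dvd (by norm_num)).2 h5).symm
    have c7 : Nat.Coprime (orderOf g) 7 := ((Nat.Prime.coprime_iff_not_dvd (by norm_num)).2 h7).symm
    have c11 : Nat.Coprime (orderOf g) 11 := ((Nat.Prime.coprime_iff_not_dvd (by norm_num)).2 h11).symm
    have c19 : Nat.Coprime (orderOf g) 19 := ((Nat.Prime.coprime_iff_not_dvd (by norm_num)).2 h19).symm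
    exact (c5.pow_right 6).mul_right (c7.mul_right (c11.mul_right c19))
  obtain ⟨a, b, ha, hb, hab⟩ := (Nat.dvd_mul).1 hs
  obtain ⟨i, hi, rfl⟩ := (Nat.dvd_prime_pow Nat.prime_two).1 ha
  obtain ⟨j, hj, rfl⟩ := (Nat.dvd_prime_pow Nat.prime_three).1 hb
  have hi3 : i ≤ 3 := by
    by_contra hc
    have h1 : 16 ∣ orderOf g := by
      rw [← hab]
      exact Dvd.dvd.mul_right (pow_dvd_pow 2 (show 4 ≤ i by omega)) _
    exact h16 _ (order_div g h1)
  have hj2 : j ≤ 2 := by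
    by_contra hc
    apply not27 g
    rw [← hab]
    exact Dvd.dvd.mul_left (pow_dvd_pow 3 (show 3 ≤ j by omega)) _
  have h72 : orderOf g ∈ Nat.divisors 72 := by
    rw [Nat.mem_divisors]
    refine ⟨?_, by norm_num⟩
    rw [← hab, show (72 : ℕ) = 2 ^ 3 * 3 ^ 2 by norm_num]
    exact Nat.mul_dvd_mul (pow_dvd_pow 2 hi3) (pow_dvd_pow 3 hj2)
  have h := dvd_72 _ h72 (not18 g) (fun h => h24 _ (order_div g h))
  revert h
  generalize orderOf g = n
  intro h
  simp only [Finset.mem_insert, Finset.mem_singleton] at h ⊢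
  tauto

end Cfsg.Agent.H651.HNF
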