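import Cfsg.Agent.H653.ThE.Cyc
import Cfsg.Agent.H904.SylOne

/-!
# Centralizers `C(x) = ⟨x⟩ × K`, `x` of prime order `p`, `p ∤ |K|` (helper651)

* `DP.exists_mul` : `c ∈ C(x)` is `x ^ i * k`;
* `DP.card_cent` : `|C(x a)| = p |C_K(a)|` for `a ∈ K`;
* `DP.exists_conj` : the elements of order `p m`, if all the elements of order `p` are conjugate to `x`;
* `conj_prime` : the elements of order `p` are conjugate if `|N : C| = p - 1`.
-/

set_option autoImplicit false

namespace Cfsg.Agent.H651.HNF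

open Subgroup Cfsg

universe u

variable {G : Type u} [Group G] [Finite G]

/-- the elements of order `p` are conjugate -/
theorem conj_prime {p : ℕ} [hp : Fact p.Prime] (h2 : ¬ p ^ 2 ∣ Nat.card G) {x y : G} (hx : orderOf x = p)
    (hy : orderOf y = p) (hN : Nat.card (normalizer ((zpowers x : Subgroup G) : Set G)) =
      Nat.card (centralizer ((zpowers x : Subgroup G) : Set G)) * (p - 1)) : IsConj x y := by
  have hP : Nat.card (zpowers x) = p := by rw [Nat.card_zpowers, hx]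
  obtain ⟨S, hS⟩ := H904.SylOne.exists_sylow hP h2
  have hle : centralizer ((S : Subgroup G) : Set G) ≤ normalizer ((S : Subgroup G) : Set G) :=
    Subgroup.centralizer_le_normalizer _
  refine Cfsg.Agent.H653.ThE.conj_all (P := S) ((congrArg (fun T : Subgroup G => Nat.card T) hS).trans hP) ?_ (x := x) (by rw [hS]; exact mem_zpowers x)
    (by rintro rfl; rw [orderOf_one] at hx; exact hp.out.one_lt.ne hx) hy
  have h4 := Subgroup.relIndex_mul_relIndex ⊥ _ _ bot_le hle
  rw [Subgroup.relIndex_bot_left, Subgroup.relIndex_bot_left] at h4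
  rw [hS] at h4 ⊢
  rw [hN] at h4
  exact Nat.eq_of_mul_eq_mul_left Nat.card_pos h4

/-- `|N(x) : C(x)|` from the order of the group -/
theorem card_normalizer_eq {p : ℕ} [hp : Fact p.Prime] (h2 : ¬ p ^ 2 ∣ Nat.card G) {x : G} (hx : orderOf x = p)
    {K n e : ℕ} (hC : Nat.card (centralizer ({x} : Set G)) = p * K) (hn : Nat.card G = p * K * n) (hK : 0 < K)
    (he : n % p = e) (he0 : 0 < e) :
    Nat.card (normalizer ((zpowers x : Subgroup G) : Set G)) = p * K * e := by
  obtain ⟨K', e', s, hd, h1, h3, h4, h5⟩ := H904.SylOne.main h2 hx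
  have hpp := hp.out.pos
  have hKK : K' = K := by
    rw [h1] at hC
    exact Nat.eq_of_mul_eq_mul_left hpp hC
  subst hKK
  have h6 : n = e' * s := by
    rw [hn] at h3
    apply Nat.eq_of_mul_eq_mul_left (Nat.mul_pos hpp hK)
    rw [h3]; ring
  have h7 : e' % p = e := by
    rw [← he, h6]
    have h8 := h4.mul_left e'
    rw [mul_one] at h8
    exact h8.symm
  have h9 : e' < p := by
    have h10 := Nat.le_of_dvd (by have := hp.out.two_le; omega) hd
    have := hp.out.two_le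
    omega
  rw [Nat.mod_eq_of_lt h9] at h7
  rw [(h5 (zpowers x) (by rw [Nat.card_zpowers, hx])).2, h7]

/-- `C(x) = ⟨x⟩ × K` -/
structure DP (p : ℕ) (x : G) (K : Subgroup G) : Prop where
  hp : p.Prime
  hx : orderOf x = p
  comm : ∀ k ∈ K, k * x = x * k
  card : Nat.card (centralizer ({x} : Set G)) = p * Nat.card K
  cop : ¬ p ∣ Nat.card K

namespace DP

variable {p : ℕ} {x : G} {K : Subgroup G} (D : DP p x K)
include D

theorem disj {u : G} (h1 : u ∈ zpowers x) (h2 : u ∈ K) : u = 1 := by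
  have h3 : zpowers x ⊓ K = ⊥ := by
    apply inf_eq_bot_of_coprime
    rw [Nat.card_zpowers, D.hx]
    exact (D.hp.coprime_iff_not_dvd).2 D.cop
  have h4 : u ∈ zpowers x ⊓ K := ⟨h1, h2⟩
  rw [h3] at h4
  exact mem_bot.1 h4

theorem pow_comm (i : ℕ) {k : G} (hk : k ∈ K) : Commute k (x ^ i) :=
  (show Commute k x from D.comm k hk).pow_right i

theorem mem_pow {u : G} (h : u ∈ zpowers x) : ∃ i, i < p ∧ u = x ^ i := by
  classical
  rw [mem_zpowers_iff_mem_range_orderOf] at h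
  obtain ⟨i, hi, h2⟩ := Finset.mem_image.1 h
  rw [D.hx] at hi
  exact ⟨i, Finset.mem_range.1 hi, h2.symm⟩

/-- the elements of the centralizer -/
theorem exists_mul {c : G} (hc : c * x = x * c) : ∃ i : ℕ, ∃ k ∈ K, c = x ^ i * k := by
  have hcc : c ∈ centralizer ({x} : Set G) := mem_centralizer_singleton_iff.2 hc
  have hm : ∀ u : zpowers x × K, (u.1 : G) * (u.2 : G) ∈ centralizer ({x} : Set G) := by
    rintro ⟨⟨u, hu⟩, ⟨k, hk⟩⟩
    obtain ⟨i, -, rfl⟩ := D.mem_pow hu
    rw [mem_centralizer_singleton_iff]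
    show x ^ i * k * x = x * (x ^ i * k)
    rw [mul_assoc, D.comm k hk, ← mul_assoc, ← pow_succ, ← mul_assoc, ← pow_succ']
  let f : zpowers x × K → centralizer ({x} : Set G) := fun u => ⟨(u.1 : G) * (u.2 : G), hm u⟩
  have hinj : Function.Injective f := by
    rintro ⟨⟨u, hu⟩, ⟨k, hk⟩⟩ ⟨⟨v, hv⟩, ⟨l, hl⟩⟩ h
    have h1 : u * k = v * l := congrArg Subtype.val h
    have h2 : v⁻¹ * u = l * k⁻¹ := by
      calc v⁻¹ * u = v⁻¹ * (u * k) * k⁻¹ := by group
        _ = l * k⁻¹ := by rw [h1]; group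
    have h3 : v⁻¹ * u = 1 := D.disj (mul_mem (inv_mem hv) hu) (by rw [h2]; exact mul_mem hl (inv_mem hk))
    have h4 : u = v := (inv_mul_eq_one.1 h3).symm
    subst h4
    have h5 : k = l := mul_left_cancel h1
    subst h5
    rfl
  have hbij := (Nat.bijective_iff_injective_and_card f).2 ⟨hinj, by
    rw [Nat.card_prod, Nat.card_zpowers, D.hx, D.card]⟩
  obtain ⟨⟨⟨u, hu⟩, ⟨k, hk⟩⟩, h⟩ := hbij.2 ⟨c, hcc⟩
  obtain ⟨i, -, rfl⟩ := D.mem_pow hu
  exact ⟨i, k, hk, (congrArg Subtype.val h).symm⟩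

theorem not_dvd {a : G} (ha : a ∈ K) : ¬ p ∣ orderOf a := by
  intro h
  apply D.cop
  have h2 := orderOf_dvd_natCard (⟨a, ha⟩ : K)
  rw [Subgroup.orderOf_mk] at h2
  exact h.trans h2

theorem cop_order {a : G} (ha : a ∈ K) : Nat.Coprime p (orderOf a) := (D.hp.coprime_iff_not_dvd).2 (D.not_dvd ha)

/-- `x` is a power of `x ^ i a` if `p ∤ i` -/
theorem exists_pow {i : ℕ} (hi : ¬ p ∣ i) {a : G} (ha : a ∈ K) : ∃ m : ℕ, (x ^ i * a) ^ m = x := by
  have h1 : Nat.Coprime (i * orderOf a) p := by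
    apply Nat.Coprime.mul_left
    · exact ((D.hp.coprime_iff_not_dvd).2 hi).symm
    · exact (D.cop_order ha).symm
  obtain ⟨m, hm⟩ := Nat.exists_mul_mod_eq_one_of_coprime h1 D.hp.one_lt
  refine ⟨orderOf a * m, ?_⟩
  rw [(D.pow_comm i ha).symm.mul_pow]
  have h2 : a ^ (orderOf a * m) = 1 := by rw [pow_mul, pow_orderOf_eq_one, one_pow]
  rw [h2, mul_one, ← pow_mul]
  have h3 : i * (orderOf a * m) = p * (i * (orderOf a * m) / p) + 1 := by
    have h4 := Nat.div_add_mod (i * (orderOf a * m)) p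
    have h5 : i * (orderOf a * m) % p = 1 := by rw [← mul_assoc]; exact hm.2
    rw [h5] at h4
    exact h4.symm
  rw [h3, pow_succ, pow_mul, ← D.hx, pow_orderOf_eq_one, one_pow, one_mul]

theorem cent_le {i : ℕ} (hi : ¬ p ∣ i) {a c : G} (ha : a ∈ K) (hc : c * (x ^ i * a) = x ^ i * a * c) :
    c * x = x * c ∧ c * a = a * c := by
  obtain ⟨m, hm⟩ := D.exists_pow hi ha
  have h1 : Commute c (x ^ i * a) := hc
  have h2 : Commute c x := by
    rw [← hm]
    exact h1.pow_right m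
  refine ⟨h2, ?_⟩
  have h3 : a = (x ^ i)⁻¹ * (x ^ i * a) := by group
  rw [h3]
  exact ((h2.pow_right i).inv_right.mul_right h1)

/-- **the centralizer of `x ^ i a`** -/
theorem card_cent {i : ℕ} (hi : ¬ p ∣ i) {a : G} (ha : a ∈ K) :
    Nat.card (centralizer ({x ^ i * a} : Set G)) = p * Nat.card ↥(K ⊓ centralizer ({a} : Set G)) := by
  rw [← D.hx, ← Nat.card_zpowers, ← Nat.card_prod]
  symm
  have hm : ∀ u : zpowers x × ↥(K ⊓ centralizer ({a} : Set G)), (u.1 : G) * (u.2 : G) ∈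
      centralizer ({x ^ i * a} : Set G) := by
    rintro ⟨⟨u, hu⟩, ⟨k, hk⟩⟩
    obtain ⟨j, -, rfl⟩ := D.mem_pow hu
    rw [mem_centralizer_singleton_iff]
    show x ^ j * k * (x ^ i * a) = x ^ i * a * (x ^ j * k)
    have h1 : Commute k (x ^ i) := D.pow_comm i hk.1
    have h2 : Commute k a := mem_centralizer_singleton_iff.1 hk.2
    have h3 : Commute a (x ^ j) := D.pow_comm j ha
    have h4 : Commute (x ^ j) (x ^ i) := (Commute.refl x).pow_pow j i
    exact ((h4.mul_right h3.symm).mul_left (h1.mul_right h2)).eq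
  refine Nat.card_congr (Equiv.ofBijective (fun u => (⟨(u.1 : G) * (u.2 : G), hm u⟩ :
    centralizer ({x ^ i * a} : Set G))) ⟨?_, ?_⟩)
  · rintro ⟨⟨u, hu⟩, ⟨k, hk⟩⟩ ⟨⟨v, hv⟩, ⟨l, hl⟩⟩ h
    have h1 : u * k = v * l := congrArg Subtype.val h
    have h2 : v⁻¹ * u = l * k⁻¹ := by
      calc v⁻¹ * u = v⁻¹ * (u * k) * k⁻¹ := by group
        _ = l * k⁻¹ := by rw [h1]; group
    have h3 : v⁻¹ * u = 1 := D.disj (mul_mem (inv_mem hv) hu) (by rw [h2]; exact mul_mem hl.1 (inv_mem hk.1))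
    have h4 : u = v := (inv_mul_eq_one.1 h3).symm
    subst h4
    have h5 : k = l := mul_left_cancel h1
    subst h5
    rfl
  · rintro ⟨c, hc⟩
    obtain ⟨h1, h2⟩ := D.cent_le hi ha (mem_centralizer_singleton_iff.1 hc)
    obtain ⟨j, k, hk, rfl⟩ := D.exists_mul h1
    have h3 : Commute a (x ^ j) := D.pow_comm j ha
    have h4 : k = (x ^ j)⁻¹ * (x ^ j * k) := by group
    have h5 : Commute (x ^ j * k) a := h2
    have h6 : k * a = a * k := by
      rw [h4]
      exact (h3.symm.inv_left.mul_left h5).eq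
    exact ⟨⟨⟨x ^ j, pow_mem (mem_zpowers x) j⟩, ⟨k, hk, mem_centralizer_singleton_iff.2 h6⟩⟩, rfl⟩

theorem order_mul {i : ℕ} (hi : ¬ p ∣ i) {a : G} (ha : a ∈ K) : orderOf (x ^ i * a) = p * orderOf a := by
  have h1 : orderOf (x ^ i) = p := by
    rw [← D.hx, orderOf_pow, D.hx, (Nat.Coprime.gcd_eq_one ((D.hp.coprime_iff_not_dvd).2 hi)), Nat.div_one]
  rw [(D.pow_comm i ha).symm.orderOf_mul_eq_mul_orderOf_of_coprime (by rw [h1]; exact D.cop_order ha), h1]

/-- the elements of order divisible by `p` -/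
theorem exists_conj (hall : ∀ y : G, orderOf y = p → IsConj x y) {y : G} (hy : p ∣ orderOf y) :
    ∃ a ∈ K, IsConj (x * a) y ∧ orderOf y = p * orderOf a := by
  -- the `p`-part
  have hp2 : ∀ z : G, ¬ p * p ∣ orderOf z := by
    intro z hz
    have hy1 : orderOf (z ^ (orderOf z / p)) = p :=
      orderOf_pow_orderOf_div (orderOf_pos z).ne' ((dvd_mul_right p p).trans hz)
    obtain ⟨g, hg⟩ := isConj_iff.1 (hall _ hy1)
    have hc : g⁻¹ * z * g * x = x * (g⁻¹ * z * g) := by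
      have h1 : x = g⁻¹ * z ^ (orderOf z / p) * g := by rw [← hg]; group
      rw [h1]
      calc g⁻¹ * z * g * (g⁻¹ * z ^ (orderOf z / p) * g) = g⁻¹ * (z * z ^ (orderOf z / p)) * g := by group
        _ = g⁻¹ * (z ^ (orderOf z / p) * z) * g := by rw [pow_mul_comm']
        _ = _ := by group
    obtain ⟨i, k, hk, h2⟩ := D.exists_mul hc
    have h3 : orderOf (g⁻¹ * z * g) = orderOf z := by
      have := orderOf_injective (MulAut.conj g⁻¹).toMonoidHom (MulAut.conj g⁻¹).injective z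
      rw [← this]
      congr 1
      show g⁻¹ * z * g = g⁻¹ * z * g⁻¹⁻¹
      rw [inv_inv]
    have h4 : orderOf z ∣ p * orderOf k := by
      rw [← h3, h2]
      apply orderOf_dvd_of_pow_eq_one
      have e1 : k ^ (p * orderOf k) = 1 := by rw [mul_comm, pow_mul, pow_orderOf_eq_one, one_pow]
      have e2 : (x ^ i) ^ (p * orderOf k) = 1 := by
        rw [← pow_mul, show i * (p * orderOf k) = p * (i * orderOf k) by ring, pow_mul, ← D.hx, pow_orderOf_eq_one,
          one_pow]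
      rw [(D.pow_comm i hk).symm.mul_pow, e1, e2, mul_one]
    have h5 : p ∣ orderOf k := Nat.dvd_of_mul_dvd_mul_left D.hp.pos (hz.trans h4)
    exact D.not_dvd hk h5
  obtain ⟨m, hm⟩ := hy
  have hmp : ¬ p ∣ m := fun h => hp2 y (by rw [hm]; exact mul_dvd_mul_left p h)
  have hm0 : 0 < m := by
    rcases Nat.eq_zero_or_pos m with rfl | h
    · rw [mul_zero] at hm; exact absurd hm (orderOf_pos y).ne'
    · exact h
  -- `y = y₁ y₂`
  have hcop : Nat.Coprime m p := ((D.hp.coprime_iff_not_dvd).2 hmp).symm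
  obtain ⟨n, -, hn⟩ := Nat.exists_mul_mod_eq_one_of_coprime hcop D.hp.one_lt
  have hy1 : orderOf (y ^ (m * n)) = p := by
    rw [orderOf_pow, hm]
    have h1 : Nat.gcd (p * m) (m * n) = m := by
      rw [mul_comm p m, Nat.gcd_mul_left]
      have h2 : Nat.Coprime p n := by
        rw [D.hp.coprime_iff_not_dvd]
        intro h
        rw [Nat.mod_eq_zero_of_dvd (h.mul_left m)] at hn
        exact absurd hn (by norm_num)
      rw [h2, mul_one]
    rw [h1, Nat.mul_div_cancel _ hm0]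
  obtain ⟨g, hg⟩ := isConj_iff.1 (hall _ hy1)
  have hx1 : x = g⁻¹ * y ^ (m * n) * g := by rw [← hg]; group
  set z := g⁻¹ * y * g with hz
  have hzy : ∀ k : ℕ, z ^ k = g⁻¹ * y ^ k * g := by
    intro k
    have h := conj_pow (i := k) (a := g⁻¹) (b := y)
    rw [inv_inv] at h
    exact h
  have hzx : z ^ (m * n) = x := by rw [hzy, hx1]
  have hcz : z * x = x * z := by rw [← hzx, pow_mul_comm']
  obtain ⟨i, k, hk, h2⟩ := D.exists_mul hcz
  have h3 : orderOf z = p * m := by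
    rw [← hm]
    have := orderOf_injective (MulAut.conj g⁻¹).toMonoidHom (MulAut.conj g⁻¹).injective y
    rw [← this]
    congr 1
    show g⁻¹ * y * g = g⁻¹ * y * g⁻¹⁻¹
    rw [inv_inv]
  have h5 : z ^ (m * n) = x ^ (i * (m * n)) * k ^ (m * n) := by
    rw [h2, (D.pow_comm i hk).symm.mul_pow, ← pow_mul]
  have hkk : k ^ (m * n) = 1 := by
    have h6 : k ^ (m * n) ∈ zpowers x := by
      have h7 : k ^ (m * n) = (x ^ (i * (m * n)))⁻¹ * x := by
        rw [hzx] at h5
        exact eq_inv_mul_of_mul_eq h5.symm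
      rw [h7]
      exact mul_mem (inv_mem (pow_mem (mem_zpowers x) _)) (mem_zpowers x)
    exact D.disj h6 (pow_mem hk _)
  rw [hkk, mul_one, hzx] at h5
  have h6 : x ^ i = x := by
    have h7 : (i * (m * n)) ≡ i [MOD p] := by
      have h8 : (m * n) ≡ 1 [MOD p] := by
        show m * n % p = 1 % p
        rw [hn, Nat.mod_eq_of_lt D.hp.one_lt]
      have h9 := h8.mul_left i
      rwa [mul_one] at h9
    have h8 : x ^ (i * (m * n)) = x ^ i := by
      rw [pow_eq_pow_iff_modEq, D.hx]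
      exact h7
    rw [← h8, ← h5]
  rw [h6] at h2
  refine ⟨k, hk, isConj_iff.2 ⟨g, ?_⟩, ?_⟩
  · rw [← h2, hz]; group
  · rw [hm, ← h3, h2]
    have h9 := D.order_mul (i := 1) (by intro h; exact D.hp.one_lt.ne' (Nat.dvd_one.1 h)) hk
    rwa [pow_one] at h9

end DP

end Cfsg.Agent.H651.HNF
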