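import Cfsg.Agent.H651.HNF.RawHN

/-!
# Representatives of the classes 8A, 8B, 9A, 12A (helper651, (M,23))
-/

set_option autoImplicit false

namespace Cfsg.Agent.H651.HNF.Reps

open Subgroup Cfsg
open Cfsg.Agent.HN.Pres Cfsg.Agent.HN.H0Basic
open Cfsg.Agent.HN.P1408 hiding ψ
open Cfsg.Agent.HN.NormalH (ψ)
open Cfsg.Agent.H981.M23 Cfsg.Agent.H981.M23.HNData Cfsg.Agent.H981.M23.HNTwoA Cfsg.Agent.H981.M23.HNTwoB

theorem ψ_ne {g : H0} (h : g ≠ 1) : ψ g ≠ 1 := by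
  intro h1
  apply h
  apply Cfsg.Agent.KFacts.HN.emb.inj
  rw [map_one]
  exact h1

theorem e8a : ∃ g : Cfsg.Spor.HN, orderOf g = 8 ∧ cn g = 80 := by
  refine ⟨ψ E, ?_, ?_⟩
  · have h4 : ¬ (ψ E) ^ 2 ^ 2 = 1 := by
      rw [← map_pow, show 2 ^ 2 = 4 from rfl, E_four]
      exact ψ_ne τ_ne_one
    have h8 : (ψ E) ^ 2 ^ 3 = 1 := by
      rw [← map_pow, show 2 ^ 3 = 4 * 2 from rfl, pow_mul, E_four, τ_sq, map_one]
    have : Fact (Nat.Prime 2) := ⟨Nat.prime_two⟩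
    exact orderOf_eq_prime_pow (p := 2) (n := 2) h4 h8
  · exact (HNTwoB.eight (x := ψ E) (by rw [← map_pow, E_four])).2

theorem e8b : ∃ g : Cfsg.Spor.HN, orderOf g = 8 ∧ cn g = 64 :=
  ⟨Cfsg.Agent.H653.HNE.R8B, Cfsg.Agent.H653.HNE.orderOf_R8B, Cfsg.Agent.H653.HNE.card_8B⟩

theorem e9 : ∃ g : Cfsg.Spor.HN, orderOf g = 9 := ⟨_, Nine.order_AF⟩

theorem w1_ne : hw w1 ≠ 1 := by
  rw [← hw_nil]
  exact hw_ne rfl rfl (p := 0) (by norm_num) (by decide +kernel)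

theorem e12a : ∃ g : Cfsg.Spor.HN, orderOf g = 12 ∧ cn g = 72 := by
  have hc : Commute (hw w1) (hw wY) := Subgroup.mem_centralizer_singleton_iff.1 w1_mem
  have hY4 : hw wY ^ 4 = 1 := by rw [show 4 = 2 * 2 from rfl, pow_mul, Y_sq, τ_sq]
  have e6 : (hw w1 * hw wY) ^ 6 = τ := by
    rw [hc.mul_pow, show 6 = 3 * 2 from rfl, pow_mul (hw w1), w12_cube.1, one_pow, one_mul, show 3 * 2 = 4 + 2 from rfl,
      pow_add, hY4, one_mul, Y_sq]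
  have e4 : (hw w1 * hw wY) ^ 4 = hw w1 := by
    rw [hc.mul_pow, hY4, mul_one, show 4 = 3 + 1 from rfl, pow_succ, w12_cube.1, one_mul]
  have e12 : (hw w1 * hw wY) ^ 12 = 1 := by rw [show 12 = 6 * 2 from rfl, pow_mul, e6, τ_sq]
  have ho : orderOf (ψ (hw w1 * hw wY)) = 12 := by
    have h12 : (ψ (hw w1 * hw wY)) ^ 12 = 1 := by rw [← map_pow, e12, map_one]
    have h6 : (ψ (hw w1 * hw wY)) ^ 6 ≠ 1 := by rw [← map_pow, e6]; exact ψ_ne τ_ne_one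
    have h4 : (ψ (hw w1 * hw wY)) ^ 4 ≠ 1 := by rw [← map_pow, e4]; exact ψ_ne w1_ne
    have hd := orderOf_dvd_of_pow_eq_one h12
    have h6' : ¬ orderOf (ψ (hw w1 * hw wY)) ∣ 6 := fun h => h6 (orderOf_dvd_iff_pow_eq_one.1 h)
    have h4' : ¬ orderOf (ψ (hw w1 * hw wY)) ∣ 4 := fun h => h4 (orderOf_dvd_iff_pow_eq_one.1 h)
    have key : ∀ n ∈ Nat.divisors 12, ¬ n ∣ 6 → ¬ n ∣ 4 → n = 12 := by decide +kernel
    exact key _ (Nat.mem_divisors.2 ⟨hd, by norm_num⟩) h6' h4'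
  exact ⟨_, ho, (HNTwoB.twelve (x := ψ (hw w1 * hw wY)) (by rw [← map_pow, e6]) ho).2⟩

end Cfsg.Agent.H651.HNF.Reps
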