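import Cfsg.Agent.H651.HNF.Main
import Cfsg.Agent.H651.HNF.Reps
import Cfsg.Agent.H717.M23.RawNum

/-!
# The table of the 5-regular classes of the Harada-Norton group (helper651, (M,23))
-/

set_option autoImplicit false

namespace Cfsg.Agent.H651.HNF

open Cfsg.Agent.CpAutHN.Pairs (X1 X3)
open Cfsg.Agent.H280.HNF (I1 I3)

/-- **the class table of `HN`** -/
theorem table : Table Cfsg.Spor.HN tyH :=
  raw.table (Cfsg.Agent.H717.M23.RawNum.num_of_raw raw Reps.e8a Reps.e8b Reps.e9 Reps.e12a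
    ⟨X1 * I1, Cfsg.Agent.H280.HNF.order12B, Cfsg.Agent.H280.HNF.card12B⟩
    ⟨X3 * I3, Cfsg.Agent.H280.HNF.order12C, Cfsg.Agent.H280.HNF.card12C⟩)

end Cfsg.Agent.H651.HNF
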