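import Cfsg.Agent.H651.HNF.RawHN
import Cfsg.Agent.H280.HNF.Cube
import Cfsg.Agent.H680.HNF.NoFF

/-!
# `Raw Spor.HN`: the class facts of the Harada-Norton group (helper651, (M,23))
-/

set_option autoImplicit false

namespace Cfsg.Agent.H651.HNF

open Subgroup Cfsg
open Cfsg.Agent.HN.XWords (W0)
open Cfsg.Agent.CpAutHN.Pairs (X1 X3 S1 S3)
open Cfsg.Agent.H280.HNF (I1 I3)

theorem cn_X1 : cn (X1 : Cfsg.Spor.HN) = 544320 := by
  have h := Cfsg.Agent.H280.HNF.card_pair_C1 Cfsg.Agent.H280.HNF.main 1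
  have h1 : centralizer ({(1 : Cfsg.Spor.HN)} : Set Cfsg.Spor.HN) = ⊤ := by
    ext c
    simp [mem_centralizer_singleton_iff]
  have h2 : ∀ {A : Type} [Group A], Nat.card ↥(centralizer ({(1 : A)} : Set A)) = Nat.card A := by
    intro A _
    have : centralizer ({(1 : A)} : Set A) = ⊤ := by
      ext c
      simp [mem_centralizer_singleton_iff]
    rw [this, Subgroup.card_top]
  rw [map_one, OneMemClass.coe_one, h1, inf_top_eq, h2] at h
  have h3 := two_mul_card_alternatingGroup (α := Fin 9)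
  rw [Fintype.card_perm, Fintype.card_fin, ← Nat.card_eq_fintype_card] at h3
  have h4 : Nat.factorial 9 = 362880 := rfl
  rw [h4] at h3
  have h5 : Nat.card Cfsg.Agent.CpAutHN.NineAlt.A9 = 181440 := by
    have h6 : 2 * Nat.card Cfsg.Agent.CpAutHN.NineAlt.A9 = 362880 := h3
    omega
  unfold cn
  rw [h, h5]

theorem inp : RawHN.Inp (X1 * I1) (X3 * I3) where
  hX1 := cn_X1
  hX3 := Cfsg.Agent.H680.HNF.card_cent_X3
  h45 := Cfsg.Agent.H680.HNF.no45
  nocube x h := Cfsg.Agent.H680.HNF.no_cube_X1 h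
  six _ h h1 := Cfsg.Agent.H280.HNF.six h h1
  c6B := Cfsg.Agent.H280.HNF.card6B
  c6C := Cfsg.Agent.H280.HNF.card6C
  twelve _ h h1 := (Cfsg.Agent.H280.HNF.twelve h h1).imp And.left And.left
  c12B := Cfsg.Agent.H280.HNF.card12B
  c12C := Cfsg.Agent.H280.HNF.card12C
  s12B := Cfsg.Agent.H280.HNF.sq12B (IsConj.refl _)
  s12C := Cfsg.Agent.H280.HNF.sq12C (IsConj.refl _)
  u12B := Cfsg.Agent.H280.HNF.cube12B (IsConj.refl _)
  u12C := Cfsg.Agent.H280.HNF.cube12C (IsConj.refl _)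

/-- **the class facts of HN** -/
theorem raw : Raw Cfsg.Spor.HN := inp.raw

end Cfsg.Agent.H651.HNF
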