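import Cfsg.Agent.H651.HNF.NineMat
import Cfsg.Agent.H728.Four.HNThreeComm
import Cfsg.Agent.H569.HNThree

/-!
# The elements of order 9 of the Harada-Norton group (helper651, (M,23))

* `conj_nine` : the elements of order 9 are conjugate to `A F`;
* `card_CP` : `|C_P(y)| ≤ 27` for `y ∈ P` of order 9.
-/

set_option autoImplicit false

namespace Cfsg.Agent.H651.HNF.Nine

open Subgroup Cfsg Cfsg.Agent.H839.Rad.Ext Cfsg.Agent.H285.ExtReal Cfsg.Agent.H285.HN3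
open Cfsg.Agent.H728.Four.HN3C
open Cfsg.Agent.H569.HNThree (exp_three)

instance three' : Fact (Nat.Prime 3) := ⟨Nat.prime_three⟩

/-- conjugation by powers of `D` -/
theorem D_F0 (i u m n : ℤ) : D ^ n * (nf W A B C₁ D i 0 u 0 m * F) * (D ^ n)⁻¹ = nf W A B C₁ D i 0 u 0 (m - n * u) * F := by
  have h1 : F * (D ^ n)⁻¹ * F⁻¹ = (D ^ n)⁻¹ := by
    have : F * (D ^ n)⁻¹ * F⁻¹ = ((F * D * F⁻¹) ^ n)⁻¹ := by rw [conj_zpow]; group
    rw [this, F_D]
  have h2 : D ^ n = nf W A B C₁ D 0 0 0 n 0 := by simp [nf]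
  have h3 : (D ^ n)⁻¹ = nf W A B C₁ D 0 0 0 (-n) 0 := by simp [nf]
  calc D ^ n * (nf W A B C₁ D i 0 u 0 m * F) * (D ^ n)⁻¹ =
      D ^ n * nf W A B C₁ D i 0 u 0 m * (F * (D ^ n)⁻¹ * F⁻¹) * F := by group
    _ = nf W A B C₁ D 0 0 0 n 0 * nf W A B C₁ D i 0 u 0 m * nf W A B C₁ D 0 0 0 (-n) 0 * F := by rw [h1, h3, h2]
    _ = _ := by rw [ext.nf_mul, ext.nf_mul]; congr 1; congr 1 <;> ring

/-- commutes with an involution or is conjugate to `A F` -/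
def Dc (x : Spor.HN) : Prop := (∃ t : Spor.HN, orderOf t = 2 ∧ t * x = x * t) ∨ IsConj (A * F) x

theorem Dc.of_conj {x : Spor.HN} (g : Spor.HN) (h : Dc (g * x * g⁻¹)) : Dc x := by
  rcases h with h | h
  · exact Or.inl (ci_conj g h)
  · exact Or.inr (h.trans (isConj_iff.2 ⟨g⁻¹, by group⟩))

theorem real_AF : IsConj (A * F) (A * F)⁻¹ := by
  have h := real_F0 1 0 0
  have e : nf W A B C₁ D 1 0 0 0 0 = A := by simp [nf]
  rwa [e] at h

theorem Dc.inv {x : Spor.HN} (h : Dc x⁻¹) : Dc x := by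
  rcases h with h | h
  · exact Or.inl (ci_inv h)
  · right
    obtain ⟨g, hg⟩ := isConj_iff.1 h
    refine real_AF.trans (isConj_iff.2 ⟨g, ?_⟩)
    have e : g * (A * F)⁻¹ * g⁻¹ = (g * (A * F) * g⁻¹)⁻¹ := by group
    rw [e, hg, inv_inv]

theorem dc_A (m : ℤ) : Dc (nf W A B C₁ D 1 0 0 0 m * F) := by
  apply Dc.of_conj (B ^ m)
  rw [B_F0, mul_one, sub_self]
  have e : nf W A B C₁ D 1 0 0 0 0 = A := by simp [nf]
  rw [e]
  exact Or.inr (IsConj.refl _)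

theorem dc_C (m : ℤ) : Dc (nf W A B C₁ D 0 0 1 0 m * F) := by
  apply Dc.of_conj (D ^ m)
  rw [D_F0, mul_one, sub_self]
  have e : nf W A B C₁ D 0 0 1 0 0 = C₁ := by simp [nf]
  rw [e]
  exact Or.inr NineMat.isConj_AF_CF

theorem dc_F0 (i u m : ℤ) : Dc (nf W A B C₁ D i 0 u 0 m * F) := by
  -- `i = 1`
  have h1 : ∀ i u m : ℤ, (3 : ℤ) ∣ i - 1 → Dc (nf W A B C₁ D i 0 u 0 m * F) := by
    intro i u m hi
    have hu : (3 : ℤ) ∣ u - 0 ∨ (3 : ℤ) ∣ u - 1 ∨ (3 : ℤ) ∣ u - 2 := by omega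
    rcases hu with hu | hu | hu
    · rw [nf_cast hi (show (3 : ℤ) ∣ 0 - 0 by simp) hu (show (3 : ℤ) ∣ 0 - 0 by simp)]
      exact dc_A m
    · rw [nf_cast hi (show (3 : ℤ) ∣ 0 - 0 by simp) hu (show (3 : ℤ) ∣ 0 - 0 by simp)]
      exact Or.inl (ci_11 m)
    · rw [nf_cast hi (show (3 : ℤ) ∣ 0 - 0 by simp) hu (show (3 : ℤ) ∣ 0 - 0 by simp)]
      exact Or.inl (ci_12 m)
  have hi : (3 : ℤ) ∣ i - 0 ∨ (3 : ℤ) ∣ i - 1 ∨ (3 : ℤ) ∣ -i - 1 := by omega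
  rcases hi with hi | hi | hi
  · have hu : (3 : ℤ) ∣ u - 0 ∨ (3 : ℤ) ∣ u - 1 ∨ (3 : ℤ) ∣ -u - 1 := by omega
    rcases hu with hu | hu | hu
    · rw [nf_cast hi (show (3 : ℤ) ∣ 0 - 0 by simp) hu (show (3 : ℤ) ∣ 0 - 0 by simp)]
      refine Or.inl (ci_of_conj S_ord ?_)
      rw [S_F0, neg_zero]
    · rw [nf_cast hi (show (3 : ℤ) ∣ 0 - 0 by simp) hu (show (3 : ℤ) ∣ 0 - 0 by simp)]
      exact dc_C m
    · apply Dc.of_conj S
      have hi' : (3 : ℤ) ∣ -i - 0 := by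
        have : -i - 0 = -(i - 0) := by ring
        rw [this]; exact dvd_neg.2 hi
      rw [S_F0, nf_cast hi' (show (3 : ℤ) ∣ 0 - 0 by simp) hu (show (3 : ℤ) ∣ 0 - 0 by simp)]
      exact dc_C m
  · exact h1 i u m hi
  · apply Dc.of_conj S
    rw [S_F0]
    exact h1 _ _ m hi

theorem dc_F {q : Spor.HN} (hq : q ∈ ext.Q) : Dc (q * F) := by
  obtain ⟨i, j, u, l, m, rfl⟩ := hq
  -- the exponent of `D`
  have hl : ∀ i u m l : ℤ, Dc (nf W A B C₁ D i 0 u l m * F) := by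
    intro i u m l
    have s0 : ∀ l m : ℤ, (3 : ℤ) ∣ l → Dc (nf W A B C₁ D i 0 u l m * F) := by
      intro l m h
      rw [nf_mod (j' := 0) (l' := 0) (by simp) (by simpa using h)]
      exact dc_F0 i u m
    have s2 : ∀ l m : ℤ, (3 : ℤ) ∣ l - 2 → Dc (nf W A B C₁ D i 0 u l m * F) := by
      intro l m h
      apply Dc.of_conj C₁
      obtain ⟨m', hm⟩ := conj_C i 0 u l m
      rw [hm]
      exact s0 _ _ h
    have h5 : (3 : ℤ) ∣ l ∨ (3 : ℤ) ∣ l - 2 ∨ (3 : ℤ) ∣ (l - 2) - 2 := by omega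
    rcases h5 with h | h | h
    · exact s0 l m h
    · exact s2 l m h
    · apply Dc.of_conj C₁
      obtain ⟨m', hm⟩ := conj_C i 0 u l m
      rw [hm]
      exact s2 _ _ h
  have s0 : ∀ j m : ℤ, (3 : ℤ) ∣ j → Dc (nf W A B C₁ D i j u l m * F) := by
    intro j m h
    rw [nf_mod (j' := 0) (l' := l) (by simpa using h) (by simp)]
    exact hl i u m l
  have s1 : ∀ j m : ℤ, (3 : ℤ) ∣ j - 1 → Dc (nf W A B C₁ D i j u l m * F) := by
    intro j m h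
    apply Dc.of_conj A
    obtain ⟨m', hm⟩ := conj_A i j u l m
    rw [hm]
    exact s0 _ _ h
  have h5 : (3 : ℤ) ∣ j ∨ (3 : ℤ) ∣ j - 1 ∨ (3 : ℤ) ∣ (j - 1) - 1 := by omega
  rcases h5 with h | h | h
  · exact s0 j m h
  · exact s1 j m h
  · apply Dc.of_conj A
    obtain ⟨m', hm⟩ := conj_A i j u l m
    rw [hm]
    exact s1 _ _ h

theorem dc_P {x : Spor.HN} (hx : x ∈ P) : Dc x := by
  obtain ⟨q, hq, s, rfl⟩ := hx
  have h3 : (3 : ℤ) ∣ s - 0 ∨ (3 : ℤ) ∣ s - 1 ∨ (3 : ℤ) ∣ s - (-1) := by omega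
  rcases h3 with h | h | h
  · rw [zpow_eq e_f3 h, zpow_zero, mul_one]
    exact Or.inl (ci_Q hq)
  · rw [zpow_eq e_f3 h, zpow_one]
    exact dc_F hq
  · rw [zpow_eq e_f3 h, zpow_neg_one]
    have h2 : F * q⁻¹ * F⁻¹ * F = (q * F⁻¹)⁻¹ := by group
    have h1 := dc_F (F_Q _ (inv_mem hq))
    rw [h2] at h1
    exact h1.inv

/-- the 3-elements are conjugate into `P` -/
theorem exists_P {p : ℕ} {x : Spor.HN} (hx : x ^ 3 ^ p = 1) : ∃ g : Spor.HN, g * x * g⁻¹ ∈ P :=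
  Cfsg.Agent.H749.exists_conj_mem (p := 3) P index_P (x := x) ⟨p, hx⟩

/-- **3-elements commute with an involution or are conjugate to `A F`** -/
theorem dc_three {p : ℕ} {x : Spor.HN} (hx : x ^ 3 ^ p = 1) : Dc x := by
  obtain ⟨g, hg⟩ := exists_P hx
  exact (dc_P hg).of_conj g

/-- **the elements of order 9 are conjugate to `A F`** -/
theorem conj_nine {x : Spor.HN} (hx : orderOf x = 9) : IsConj (A * F) x := by
  have h9 : x ^ 3 ^ 2 = 1 := by rw [show (3 : ℕ) ^ 2 = 9 by norm_num, ← hx, pow_orderOf_eq_one]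
  rcases dc_three h9 with ⟨t, ht, hc⟩ | h
  · exfalso
    have h3 := exp_three (y := x) (t := t) ⟨2, h9⟩ ht hc.symm
    have h4 := orderOf_dvd_of_pow_eq_one h3
    rw [hx] at h4
    norm_num at h4
  · exact h

/-- the cube of `A F` -/
theorem cube_AF : (A * F) ^ 3 = W ^ (2 : ℤ) := by
  have hB : B = nf W A B C₁ D 0 1 0 0 0 := by simp [nf]
  have hA : A = nf W A B C₁ D 1 0 0 0 0 := by simp [nf]
  have h1 : F * A * F⁻¹ = nf W A B C₁ D 1 1 0 0 1 := F_A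
  have h2 : F * nf W A B C₁ D 1 1 0 0 1 * F⁻¹ = nf W A B C₁ D 1 2 0 0 2 := by
    have : nf W A B C₁ D 1 1 0 0 1 = A * B * W := by simp [nf]
    rw [this]
    calc F * (A * B * W) * F⁻¹ = (F * A * F⁻¹) * (F * B * F⁻¹) * (F * W * F⁻¹) := by group
      _ = nf W A B C₁ D 1 1 0 0 1 * nf W A B C₁ D 0 1 0 0 0 * nf W A B C₁ D 0 0 0 0 1 := by
        have hW : W = nf W A B C₁ D 0 0 0 0 1 := by simp [nf]
        rw [F_A, F_W, F_B, ← hB, ← hW]
      _ = _ := by rw [ext.nf_mul, ext.nf_mul]; exact nf_eq (by ring) (by ring) (by ring) (by ring) (by ring)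
  have h3 : A * nf W A B C₁ D 1 1 0 0 1 = nf W A B C₁ D 1 0 0 0 0 * nf W A B C₁ D 1 1 0 0 1 := congrArg (· * _) hA
  rw [cube_eq _ _ _ h1 h2, h3, ext.nf_mul, ext.nf_mul, W_nf,
    nf_cast (i' := 0) (j' := 0) (u' := 0) (l' := 0) (by norm_num) (by norm_num) (by norm_num) (by norm_num)]
  exact nf_eq (by ring) (by ring) (by ring) (by ring) (by ring)

theorem order_AF : orderOf (A * F) = 9 := by
  have h1 : (A * F) ^ 3 ≠ 1 := by
    have h := cube_A 0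
    have e : nf W A B C₁ D 1 0 0 0 0 = A := by simp [nf]
    rwa [e] at h
  have h2 : (A * F) ^ 9 = 1 := by
    rw [show 9 = 3 * 3 by norm_num, pow_mul, cube_AF, ← zpow_natCast, ← zpow_mul, mul_comm, zpow_mul]
    have : W ^ ((3 : ℕ) : ℤ) = 1 := by rw [zpow_natCast, e_w3]
    rw [this, one_zpow]
  have h3 : orderOf (A * F) ∣ 3 ^ 2 := orderOf_dvd_of_pow_eq_one h2
  obtain ⟨k, hk, h4⟩ := (Nat.dvd_prime_pow Nat.prime_three).1 h3
  have h5 : ¬ k ≤ 1 := by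
    intro h
    apply h1
    exact orderOf_dvd_iff_pow_eq_one.1 (by rw [h4]; exact pow_dvd_pow 3 h)
  have h6 : k = 2 := by omega
  rw [h4, h6]
  norm_num

/-! ### centralizers in `P` -/

/-- uniqueness of the normal form -/
theorem nf_inj {i j u l m i' j' u' l' m' : ℤ} (h : nf W A B C₁ D i j u l m = nf W A B C₁ D i' j' u' l' m') :
    (3 : ℤ) ∣ i - i' ∧ (3 : ℤ) ∣ j - j' ∧ (3 : ℤ) ∣ u - u' ∧ (3 : ℤ) ∣ l - l' ∧ (3 : ℤ) ∣ m - m' := by
  have hz : ∀ {e : ℤ}, W ^ e = 1 → (3 : ℤ) ∣ e := by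
    intro e he
    by_contra hc
    exact W_pow_ne hc he
  have key : ∀ a b c d : ℤ, (3 : ℤ) ∣ (i * b - a * j + u * d - c * l) - (i' * b - a * j' + u' * d - c * l') := by
    intro a b c d
    have h1 := ext.nf_mul_comm i j u l m a b c d 0
    have h2 := ext.nf_mul_comm i' j' u' l' m' a b c d 0
    rw [← h] at h2
    have h3 := mul_right_cancel (h1.symm.trans h2)
    apply hz
    rw [zpow_sub, h3, mul_inv_cancel]
  have k1 := key 0 1 0 0
  have k2 := key (-1) 0 0 0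
  have k3 := key 0 0 0 1
  have k4 := key 0 0 (-1) 0
  have e1 : (3 : ℤ) ∣ i - i' := by convert k1 using 1; ring
  have e2 : (3 : ℤ) ∣ j - j' := by convert k2 using 1; ring
  have e3 : (3 : ℤ) ∣ u - u' := by convert k3 using 1; ring
  have e4 : (3 : ℤ) ∣ l - l' := by convert k4 using 1; ring
  refine ⟨e1, e2, e3, e4, ?_⟩
  rw [nf_cast e1 e2 e3 e4] at h
  unfold nf at h
  have h5 := mul_left_cancel h
  apply hz
  rw [zpow_sub, h5, mul_inv_cancel]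

/-- the elements of `Q` commuting with `q F` -/
theorem comm_Q {i j u l m i' j' u' l' m' : ℤ}
    (h : nf W A B C₁ D i' j' u' l' m' * (nf W A B C₁ D i j u l m * F) =
      nf W A B C₁ D i j u l m * F * nf W A B C₁ D i' j' u' l' m') :
    (3 : ℤ) ∣ i' ∧ (3 : ℤ) ∣ u' ∧ (3 : ℤ) ∣ i * j' + u * l' := by
  obtain ⟨m'', hF⟩ := F_co i' j' u' l' m'
  have h1 : nf W A B C₁ D i' j' u' l' m' * nf W A B C₁ D i j u l m =
      nf W A B C₁ D i j u l m * (F * nf W A B C₁ D i' j' u' l' m' * F⁻¹) := by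
    calc nf W A B C₁ D i' j' u' l' m' * nf W A B C₁ D i j u l m
        = nf W A B C₁ D i' j' u' l' m' * (nf W A B C₁ D i j u l m * F) * F⁻¹ := by group
      _ = nf W A B C₁ D i j u l m * F * nf W A B C₁ D i' j' u' l' m' * F⁻¹ := by rw [h]
      _ = _ := by group
  rw [hF, ext.nf_mul, ext.nf_mul] at h1
  obtain ⟨-, h2, -, h4, -⟩ := nf_inj h1
  have hi : (3 : ℤ) ∣ i' := by
    have : -(j' + j - (j + (j' + i'))) = i' := by ring
    rw [← this]; exact dvd_neg.2 h2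
  have hu : (3 : ℤ) ∣ u' := by
    have e : -(l' + l - (l + (l' + 2 * u'))) = 2 * u' := by ring
    have h5 : (3 : ℤ) ∣ 2 * u' := by rw [← e]; exact dvd_neg.2 h4
    omega
  refine ⟨hi, hu, ?_⟩
  -- now `c` commutes with `F`
  have hc0 : nf W A B C₁ D i' j' u' l' m' = nf W A B C₁ D 0 j' 0 l' m' :=
    nf_cast (by simpa using hi) (by simp) (by simpa using hu) (by simp)
  have hcF : F * nf W A B C₁ D 0 j' 0 l' m' * F⁻¹ = nf W A B C₁ D 0 j' 0 l' m' := by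
    have e : nf W A B C₁ D 0 j' 0 l' m' = B ^ j' * D ^ l' * W ^ m' := by simp [nf]
    rw [e]
    calc F * (B ^ j' * D ^ l' * W ^ m') * F⁻¹ = (F * B * F⁻¹) ^ j' * (F * D * F⁻¹) ^ l' * (F * W * F⁻¹) ^ m' := by
          rw [conj_zpow, conj_zpow, conj_zpow]; group
      _ = _ := by rw [F_B, F_D, F_W]
  rw [hc0] at h
  have h6 : nf W A B C₁ D 0 j' 0 l' m' * nf W A B C₁ D i j u l m =
      nf W A B C₁ D i j u l m * nf W A B C₁ D 0 j' 0 l' m' := by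
    calc nf W A B C₁ D 0 j' 0 l' m' * nf W A B C₁ D i j u l m
        = nf W A B C₁ D 0 j' 0 l' m' * (nf W A B C₁ D i j u l m * F) * F⁻¹ := by group
      _ = nf W A B C₁ D i j u l m * (F * nf W A B C₁ D 0 j' 0 l' m' * F⁻¹) := by rw [h]; group
      _ = _ := by rw [hcF]
  have h7 := ext.comm_iff.1 h6
  have e : i * j' + u * l' = -(0 * j - i * j' + 0 * l - u * l') := by ring
  rw [e]
  exact dvd_neg.2 h7

theorem cast_zero {t : ℤ} (h : (3 : ℤ) ∣ t) : (t : ZMod 3) = 0 := (ZMod.intCast_zmod_eq_zero_iff_dvd t 3).2 h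

theorem cnt : ∀ i u : ZMod 3, ¬ (i = 0 ∧ u = 0) →
    Fintype.card {v : ZMod 3 × ZMod 3 × ZMod 3 // i * v.1 + u * v.2.1 = 0} ≤ 9 := by decide +kernel

/-- `|C_Q(q F)| ≤ 9` -/
theorem card_CQ {i j u l m : ℤ} (hiu : ¬ ((3 : ℤ) ∣ i ∧ (3 : ℤ) ∣ u)) :
    Nat.card ↥(ext.Q ⊓ centralizer ({nf W A B C₁ D i j u l m * F} : Set Spor.HN)) ≤ 9 := by
  have hv : ∀ c : ↥(ext.Q ⊓ centralizer ({nf W A B C₁ D i j u l m * F} : Set Spor.HN)), ∃ j' l' m' : ℤ,
      (c : Spor.HN) = nf W A B C₁ D 0 j' 0 l' m' ∧ (3 : ℤ) ∣ i * j' + u * l' := by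
    rintro ⟨c, ⟨i', j', u', l', m', rfl⟩, hc⟩
    obtain ⟨h1, h2, h3⟩ := comm_Q (mem_centralizer_singleton_iff.1 hc)
    exact ⟨j', l', m', nf_cast (by simpa using h1) (by simp) (by simpa using h2) (by simp), h3⟩
  choose fj fl fm hf hd using hv
  have hiu' : ¬ ((i : ZMod 3) = 0 ∧ (u : ZMod 3) = 0) := by
    rintro ⟨h1, h2⟩
    exact hiu ⟨(ZMod.intCast_zmod_eq_zero_iff_dvd i 3).1 h1, (ZMod.intCast_zmod_eq_zero_iff_dvd u 3).1 h2⟩
  refine le_trans ?_ (cnt i u hiu')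
  rw [← Nat.card_eq_fintype_card]
  refine Nat.card_le_card_of_injective (fun c => ⟨((fj c : ZMod 3), (fl c : ZMod 3), (fm c : ZMod 3)), ?_⟩) ?_
  · have := cast_zero (hd c)
    push_cast at this
    exact this
  · intro c c' h
    have h1 := congrArg Subtype.val h
    obtain ⟨h2, h3⟩ := Prod.ext_iff.1 h1
    obtain ⟨h4, h5⟩ := Prod.ext_iff.1 h3
    have hdv : ∀ {s t : ℤ}, (s : ZMod 3) = (t : ZMod 3) → (3 : ℤ) ∣ s - t := by
      intro s t h
      refine (ZMod.intCast_zmod_eq_zero_iff_dvd (s - t) 3).1 ?_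
      push_cast
      rw [h, sub_self]
    apply Subtype.ext
    rw [hf c, hf c', nf_cast (i' := 0) (j' := fj c') (u' := 0) (l' := fl c') (by simp) (hdv h2) (by simp) (hdv h4)]
    unfold nf
    rw [zpow_eq e_w3 (hdv h5)]

/-- the elements `q F` with `3 ∣ i`, `3 ∣ u` have order 3 -/
theorem cube_one {i j u l m : ℤ} (h : (3 : ℤ) ∣ i ∧ (3 : ℤ) ∣ u) : (nf W A B C₁ D i j u l m * F) ^ 3 = 1 := by
  have e : nf W A B C₁ D i j u l m = B ^ j * D ^ l * W ^ m := by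
    rw [nf_cast (i' := 0) (j' := j) (u' := 0) (l' := l) (by simpa using h.1) (by simp) (by simpa using h.2) (by simp)]
    simp [nf]
  have cBD : Commute B D := ext.bd
  have cWB : Commute W B := ext.wb
  have cWD : Commute W D := ext.wd
  have cBF : Commute B F := by have := F_B; rw [mul_inv_eq_iff_eq_mul] at this; exact this.symm
  have cDF : Commute D F := by have := F_D; rw [mul_inv_eq_iff_eq_mul] at this; exact this.symm
  have cWF : Commute W F := by have := F_W; rw [mul_inv_eq_iff_eq_mul] at this; exact this.symm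
  have c1 : Commute (B ^ j * D ^ l * W ^ m) F := ((cBF.zpow_left j).mul_left (cDF.zpow_left l)).mul_left (cWF.zpow_left m)
  have c2 : Commute (B ^ j * D ^ l) (W ^ m) := (cWB.symm.zpow_zpow j m).mul_left (cWD.symm.zpow_zpow l m)
  have c3 : Commute (B ^ j) (D ^ l) := cBD.zpow_zpow j l
  have hz : ∀ {a : Spor.HN} (k : ℤ), a ^ 3 = 1 → (a ^ k) ^ 3 = 1 := by
    intro a k ha
    rw [← zpow_natCast, ← zpow_mul, mul_comm, zpow_mul, zpow_natCast, ha, one_zpow]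
  rw [e, c1.mul_pow, c2.mul_pow, c3.mul_pow, hz j ext.hb, hz l ext.hd, hz m e_w3, e_f3]
  simp

/-- powers of `q F` -/
theorem pow_mem {q : Spor.HN} (hq : q ∈ ext.Q) (s : ℕ) : (q * F) ^ s * (F ^ s)⁻¹ ∈ ext.Q := by
  induction s with
  | zero => simp
  | succ s ih =>
    have h1 : (q * F) ^ (s + 1) * (F ^ (s + 1))⁻¹ = (q * F) ^ s * (F ^ s)⁻¹ * (F ^ (s : ℤ) * q * (F ^ (s : ℤ))⁻¹) := by
      rw [pow_succ, pow_succ, zpow_natCast]; group
    rw [h1]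
    exact mul_mem ih (Fz_Q s q hq)

/-- `|C_P(q F)| ≤ 3 |C_Q(q F)|` -/
theorem card_CP_le {q : Spor.HN} (hq : q ∈ ext.Q) : Nat.card ↥(P ⊓ centralizer ({q * F} : Set Spor.HN)) ≤
    3 * Nat.card ↥(ext.Q ⊓ centralizer ({q * F} : Set Spor.HN)) := by
  have hv : ∀ c : ↥(P ⊓ centralizer ({q * F} : Set Spor.HN)), ∃ s : Fin 3,
      (c : Spor.HN) * ((q * F) ^ (s : ℕ))⁻¹ ∈ ext.Q ⊓ centralizer ({q * F} : Set Spor.HN) := by
    rintro ⟨c, ⟨q', hq', s, rfl⟩, hc⟩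
    have hs : F ^ s = F ^ (s % 3).toNat := by
      rw [← zpow_natCast, Int.toNat_of_nonneg (Int.emod_nonneg s (by norm_num))]
      exact zpow_eq e_f3 (by omega)
    refine ⟨⟨(s % 3).toNat, by have := Int.emod_lt_of_pos s (show (0 : ℤ) < 3 by norm_num); omega⟩, ?_, ?_⟩
    · have h1 : q' * F ^ s * ((q * F) ^ (s % 3).toNat)⁻¹ = q' * ((q * F) ^ (s % 3).toNat * (F ^ (s % 3).toNat)⁻¹)⁻¹ := by
        rw [hs]; group
      show q' * F ^ s * ((q * F) ^ (s % 3).toNat)⁻¹ ∈ ext.Q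
      rw [h1]
      exact mul_mem hq' (inv_mem (pow_mem hq _))
    · exact Subgroup.mul_mem _ hc (Subgroup.inv_mem _ (Subgroup.pow_mem _ (mem_centralizer_singleton_iff.2 rfl) _))
  choose f hf using hv
  have h1 := Nat.card_le_card_of_injective
    (fun c : ↥(P ⊓ centralizer ({q * F} : Set Spor.HN)) => ((f c, ⟨_, hf c⟩) : Fin 3 × ↥(ext.Q ⊓ centralizer ({q * F} : Set Spor.HN)))) ?_
  · rwa [Nat.card_prod, Nat.card_fin] at h1
  · intro c c' h
    obtain ⟨h1, h2⟩ := Prod.ext_iff.1 h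
    have h3 : (c : Spor.HN) * ((q * F) ^ (f c : ℕ))⁻¹ = (c' : Spor.HN) * ((q * F) ^ (f c' : ℕ))⁻¹ := congrArg Subtype.val h2
    have h1' : f c = f c' := h1
    rw [h1'] at h3
    exact Subtype.ext (mul_right_cancel h3)

theorem card_CP_F {q : Spor.HN} (hq : q ∈ ext.Q) (h9 : (q * F) ^ 3 ≠ 1) :
    Nat.card ↥(P ⊓ centralizer ({q * F} : Set Spor.HN)) ≤ 27 := by
  have h1 := card_CP_le hq
  obtain ⟨i, j, u, l, m, rfl⟩ := hq
  have h2 := card_CQ (i := i) (j := j) (u := u) (l := l) (m := m) (fun h => h9 (cube_one h))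
  omega

theorem cent_inv (x : Spor.HN) : centralizer ({x⁻¹} : Set Spor.HN) = centralizer ({x} : Set Spor.HN) := by
  ext c
  rw [mem_centralizer_singleton_iff, mem_centralizer_singleton_iff]
  constructor
  · intro h
    have h1 : Commute c x⁻¹ := h
    have h2 := h1.inv_right
    rw [inv_inv] at h2
    exact h2
  · intro h
    have h1 : Commute c x := h
    exact h1.inv_right

/-- **`|C_P(y)| ≤ 27`** -/
theorem card_CP {y : Spor.HN} (hy : y ∈ P) (h9 : y ^ 3 ≠ 1) :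
    Nat.card ↥(P ⊓ centralizer ({y} : Set Spor.HN)) ≤ 27 := by
  obtain ⟨q, hq, s, rfl⟩ := hy
  have h3 : (3 : ℤ) ∣ s - 0 ∨ (3 : ℤ) ∣ s - 1 ∨ (3 : ℤ) ∣ s - (-1) := by omega
  rcases h3 with h | h | h
  · exfalso
    rw [zpow_eq e_f3 h, zpow_zero, mul_one] at h9
    exact h9 (ext.pow_eq_one (by decide) q hq)
  · rw [zpow_eq e_f3 h, zpow_one] at h9 ⊢
    exact card_CP_F hq h9
  · rw [zpow_eq e_f3 h, zpow_neg_one] at h9 ⊢
    have h2 : F * q⁻¹ * F⁻¹ * F = (q * F⁻¹)⁻¹ := by group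
    rw [← cent_inv, ← h2]
    refine card_CP_F (F_Q _ (inv_mem hq)) ?_
    rw [h2, inv_pow]
    exact fun h => h9 (inv_eq_one.1 h)

end Cfsg.Agent.H651.HNF.Nine
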