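import Cfsg.Agent.H651.HNF.Nine
import Cfsg.Agent.H651.HNF.Big
import Cfsg.Agent.H789.Ore.HNComp

/-!
# The centralizer of an element of order 9 of the Harada-Norton group (helper651, (M,23))
-/

set_option autoImplicit false

namespace Cfsg.Agent.H651.HNF.Nine

open Subgroup Cfsg Cfsg.Agent.H839.Rad.Ext Cfsg.Agent.H285.HN3
open Cfsg.Agent.H728.Four.HN3C
open Cfsg.Agent.H569.HNThree (exp_three)

/-- the 3-subgroups of the centralizer of an element of order 9 -/
theorem card_three {x : Spor.HN} (hx : orderOf x = 9) (S : Subgroup Spor.HN) (hS : IsPGroup 3 S)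
    (hc : S ≤ centralizer ({x} : Set Spor.HN)) (hxS : x ∈ S) : Nat.card S ≤ 27 := by
  obtain ⟨Q, hQ⟩ := hS.exists_le_sylow
  obtain ⟨g, hg⟩ := MulAction.exists_smul_eq Spor.HN Q (isPGroup_P.toSylow index_P)
  have h2 : (Q : Subgroup Spor.HN).map (MulAut.conj g).toMonoidHom = P :=
    congrArg (fun S : Sylow 3 Spor.HN => (S : Subgroup Spor.HN)) hg
  have h3 : ∀ c ∈ S, g * c * g⁻¹ ∈ P := by
    intro c hcS
    rw [← h2]
    exact ⟨c, hQ hcS, rfl⟩
  have h4 : (g * x * g⁻¹) ^ 3 ≠ 1 := by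
    intro h
    rw [conj_pow] at h
    have h5 := orderOf_dvd_of_pow_eq_one (conj_eq_one_iff.1 h)
    rw [hx] at h5
    norm_num at h5
  refine le_trans ?_ (card_CP (h3 x hxS) h4)
  refine Nat.card_le_card_of_injective (fun c : S => ⟨g * c * g⁻¹, h3 c c.2, ?_⟩) ?_
  · have h6 := mem_centralizer_singleton_iff.1 (hc c.2)
    change g * (c : Spor.HN) * g⁻¹ ∈ centralizer ({g * x * g⁻¹} : Set Spor.HN)
    rw [mem_centralizer_singleton_iff]
    calc g * (c : Spor.HN) * g⁻¹ * (g * x * g⁻¹) = g * ((c : Spor.HN) * x) * g⁻¹ := by group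
      _ = g * (x * (c : Spor.HN)) * g⁻¹ := by rw [h6]
      _ = _ := by group
  · intro c c' h
    have h6 : g * (c : Spor.HN) * g⁻¹ = g * c' * g⁻¹ := congrArg Subtype.val h
    exact Subtype.ext (mul_left_cancel (mul_right_cancel h6))

theorem comm_D : D * (A * F) = A * F * D := by
  have cDF : Commute D F := by have := F_D; rw [mul_inv_eq_iff_eq_mul] at this; exact this.symm
  have cDA : Commute D A := ext.ad.symm
  exact (cDA.mul_right cDF).eq

theorem D_not : D ∉ zpowers (A * F) := by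
  intro h
  obtain ⟨n, hn⟩ := mem_zpowers_iff.1 h
  have h3 : (A * F) ^ (n * 3) = 1 := by
    rw [zpow_mul, hn]
    have := ext.hd
    exact_mod_cast this
  have h4 := orderOf_dvd_iff_zpow_eq_one.2 h3
  rw [order_AF] at h4
  obtain ⟨k, hk⟩ : (3 : ℤ) ∣ n := by omega
  rw [hk, zpow_mul] at hn
  have h5 : (A * F) ^ (3 : ℤ) = W ^ (2 : ℤ) := by
    have := cube_AF
    exact_mod_cast this
  rw [h5, ← zpow_mul, W_nf] at hn
  have hD : D = nf W A B C₁ D 0 0 0 1 0 := by simp [nf]
  rw [hD] at hn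
  obtain ⟨-, -, -, h6, -⟩ := nf_inj hn
  norm_num at h6

/-- no element of prime order `p ≠ 3` commutes with an element of order 9 -/
theorem prime_eq (h45 : ∀ b x : Spor.HN, orderOf b = 5 → orderOf x = 9 → b * x ≠ x * b) {x b : Spor.HN}
    (hx : orderOf x = 9) {p : ℕ} (hp : p.Prime) (hb : orderOf b = p) (hc : b * x = x * b) : p = 3 := by
  have h1 : p ∣ 273030912000000 := by
    rw [← hb, ← Cfsg.Agent.H651.HNF.card_G]
    exact orderOf_dvd_natCard b
  have hmul : p ≠ 3 → orderOf (b * x) = p * 9 := by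
    intro h3
    have := (show Commute b x from hc).orderOf_mul_eq_mul_orderOf_of_coprime (by
      rw [hb, hx, show (9 : ℕ) = 3 ^ 2 by norm_num]
      exact ((Nat.coprime_primes hp Nat.prime_three).2 h3).pow_right 2)
    rw [this, hb, hx]
  rcases Cfsg.Agent.H789.Ore.HNComp.prime_cases hp h1 with rfl | rfl | rfl | rfl | rfl | rfl
  · exfalso
    have h9 : x ^ 3 ^ 2 = 1 := by rw [show (3 : ℕ) ^ 2 = 9 by norm_num, ← hx, pow_orderOf_eq_one]
    have h3 := exp_three (y := x) (t := b) ⟨2, h9⟩ hb hc.symm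
    have h4 := orderOf_dvd_of_pow_eq_one h3
    rw [hx] at h4
    norm_num at h4
  · rfl
  · exact absurd hc (h45 b x hb hx)
  · exfalso
    have h := hmul (by norm_num)
    rcases Cfsg.Agent.H651.HNF.ord7 (b * x) (by rw [h]; norm_num) (by rw [h]; norm_num) with h' | h' | h' <;>
      · rw [h] at h'; norm_num at h'
  · exfalso
    have h := hmul (by norm_num)
    rcases Cfsg.Agent.H651.HNF.ord11 (b * x) (by rw [h]; norm_num) with h' | h' <;>
      · rw [h] at h'; norm_num at h'
  · exfalso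
    have h := hmul (by norm_num)
    have h' := Cfsg.Agent.H651.HNF.ord19 (b * x) (by rw [h]; norm_num)
    rw [h] at h'; norm_num at h'

/-- **`|C(A F)| = 27`** -/
theorem card_AF (h45 : ∀ b x : Spor.HN, orderOf b = 5 → orderOf x = 9 → b * x ≠ x * b) :
    Nat.card (centralizer ({A * F} : Set Spor.HN)) = 27 := by
  set H := centralizer ({A * F} : Set Spor.HN) with hH
  have hp : IsPGroup 3 H := by
    rw [IsPGroup.iff_card]
    refine ⟨_, Nat.eq_prime_pow_of_unique_prime_dvd Nat.card_pos.ne' fun {q} hq hd => ?_⟩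
    have : Fact q.Prime := ⟨hq⟩
    obtain ⟨b, hb⟩ := exists_prime_orderOf_dvd_card' (G := H) q hd
    exact prime_eq h45 order_AF hq (b := b) (by rw [Subgroup.orderOf_coe, hb]) (mem_centralizer_singleton_iff.1 b.2)
  have h1 : Nat.card H ≤ 27 := card_three order_AF H hp le_rfl (mem_centralizer_singleton_iff.2 rfl)
  obtain ⟨k, hk⟩ := IsPGroup.iff_card.1 hp
  have h2 : 9 < Nat.card H := by
    rw [← order_AF, ← Nat.card_zpowers]
    have h3 : zpowers (A * F) < H := by
      refine lt_of_le_of_ne ?_ ?_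
      · rw [zpowers_le]
        exact mem_centralizer_singleton_iff.2 rfl
      · intro h
        apply D_not
        rw [h, hH, mem_centralizer_singleton_iff]
        exact comm_D
    exact Set.ncard_lt_ncard h3 (Set.toFinite _)
  rw [hk] at h1 h2 ⊢
  have h3 : 2 < k := (Nat.pow_lt_pow_iff_right (show 1 < 3 by norm_num)).1 (lt_of_eq_of_lt (by norm_num) h2)
  have h4 : k ≤ 3 := (Nat.pow_le_pow_iff_right (show 1 < 3 by norm_num)).1 (h1.trans (by norm_num))
  have h5 : k = 3 := by omega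
  rw [h5]
  norm_num

end Cfsg.Agent.H651.HNF.Nine
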