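import Cfsg.Agent.H728.Four.HNThree
import Cfsg.Agent.H134.Split.HNNine

/-!
# The elements `A F` and `C₁ F` of order 9 of the Harada-Norton group are conjugate (helper651, (M,23); program generated;
the kernel check is done in segments by helper134)
-/

set_option autoImplicit false
set_option maxRecDepth 100000

namespace Cfsg.Agent.H651.HNF.NineMat

open Subgroup Cfsg Cfsg.Agent.H839.Rad.Ext Cfsg.Agent.H285.HN3
open Cfsg.Agent.Lib.PackMat Cfsg.Agent.Lib.PackMatGroup Cfsg.Agent.Lib.PackMatMul Cfsg.Agent.HN.RepData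
open Cfsg.Agent.HN.Rep (L LG gens rho)
open Cfsg.Agent.HN
open Cfsg.Agent.H728.Four.HN3 (runG_append)

/-- the additional steps (after the first 23 steps of the program of helper285) -/
def pg : List (ℕ × List ℕ) := [
  (10, [10, 2, 1]),
  (44, [44, 47]),
  (47, [46, 46]),
  (2, [0, 2, 1]),
  (1, [3, 2, 3]),
  (1, [1, 1]),
  (0, [0]),
  (0, [0]),
  (6, [0]),
  (4, [4, 4]),
  (0, [0]),
  (0, [0]),
  (0, [9]),
  (57, [59]),
  (59, [57]),
  (14, [0, 14, 1]),
  (0, [0, 0]),
  (0, [0, 1]),
  (0, [0, 2]),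
  (0, [10, 0, 6, 0, 6, 6, 0, 6, 0, 6, 6, 0, 6, 6, 0]),
  (24, [30, 0]),
  (1, [21, 31])]

theorem len_pg : pg.length = 22 := rfl

theorem chk : checkS C (prog.take 23 ++ pg) [(1, 0)] [] Cfsg.Agent.HN.A12Step.L20 = true :=
  Cfsg.Agent.H154.Split.checkS_of_segs 28 Cfsg.Agent.H134.Split.HNNine.segs' rfl (by decide +kernel)
    Cfsg.Agent.H134.Split.HNNine.chain'

theorem sound : ∀ q ∈ [(1, 0)], (runG (prog.take 23 ++ pg) LG').getD q.1 1 = (runG (prog.take 23 ++ pg) LG').getD q.2 1 :=
  (checkS_sound (good_of_check Rep.good) A12.results chk (by decide)).1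

/-- results -/
noncomputable def T (i : ℕ) : Cfsg.Spor.HN := (runG (prog.take 23 ++ pg) gens').getD i 1

theorem rho_T (i : ℕ) : rho (T i) = (runG (prog.take 23 ++ pg) LG').getD i 1 := by
  unfold T
  rw [← gens'_map, runG_map, List.getD_eq_getElem?_getD, List.getD_eq_getElem?_getD, List.getElem?_map]
  cases (runG (prog.take 23 ++ pg) gens')[i]? with
  | none => simp
  | some b => simp

theorem eqT : T 1 = T 0 := by
  have := Cfsg.Agent.S1701.result.1
  apply A12Group.rho_injective
  rw [rho_T, rho_T]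
  exact sound (1, 0) (by simp)

theorem T_old (j : ℕ) : T (22 + j) = R (62 + j) := by
  have h1 : prog = prog.take 23 ++ prog.drop 23 := by rfl
  have h4 : (prog.drop 23).length = 62 := rfl
  have e1 : T (22 + j) = (runG (prog.take 23) gens').getD j 1 := by
    unfold T
    rw [runG_append]
    exact runG_getD pg _ j
  have e2 : R (62 + j) = (runG (prog.take 23) gens').getD j 1 := by
    unfold R
    conv_lhs => rw [h1, runG_append, ← h4]
    exact runG_getD _ _ j
  rw [e1, e2]

theorem stepT {i : ℕ} {w : List ℕ} (hi : i < (prog.take 23 ++ pg).length)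
    (hw : (((prog.take 23 ++ pg).reverse.getD i (0, [])).1 :: ((prog.take 23 ++ pg).reverse.getD i (0, [])).2) = w) :
    T i = evF (fun m => T (i + 1 + m)) w := by
  rw [← hw]
  exact runG_step (prog.take 23 ++ pg) gens' i hi

theorem ex : T 1 = T 26 * (T 32 * (T 2 * 1)) :=
  stepT (i := 1) (w := [24, 30, 0]) (by decide) (by rfl)
theorem ey : T 0 = T 2 * (T 22 * (T 32 * 1)) :=
  stepT (i := 0) (w := [1, 21, 31]) (by decide) (by rfl)

/-- **`A F` and `C₁ F` are conjugate** -/
theorem isConj_AF_CF : IsConj (A * F) (C₁ * F) := by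
  have hA : T 26 = A := T_old 4
  have hF : T 32 = F := T_old 10
  have hC : T 22 = C₁ := T_old 0
  have h := eqT
  rw [ex, ey, hA, hF, hC] at h
  rw [mul_one, mul_one] at h
  rw [isConj_iff]
  refine ⟨(T 2)⁻¹, ?_⟩
  rw [inv_inv, mul_assoc, mul_assoc, h, inv_mul_cancel_left]

end Cfsg.Agent.H651.HNF.NineMat
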