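import Cfsg.Agent.H651.HNF.Raw
import Cfsg.Agent.H651.HNF.Cover
import Cfsg.Agent.H651.HNF.NineCent
import Cfsg.Agent.H653.HNE.Exact
import Cfsg.Agent.H981.M23.HNTwoB

/-!
# The facts `Raw Spor.HN` from the facts over `C(X1)` and `C(X3)` (helper651, (M,23))
-/

set_option autoImplicit false

namespace Cfsg.Agent.H651.HNF.RawHN

open Subgroup Cfsg
open Cfsg.Agent.HN.XWords (W0)
open Cfsg.Agent.KFacts.HN.Classes (inv_class)
open Cfsg.Agent.CpAutHN.Pairs (X1 X3 S1 S3 tt isConj_tt card_cent_tt order_X1 order_X3 comm_of not_conj)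
open Cfsg.Agent.CpAutHN.Alt (t2_mem x1_mem)
open Cfsg.Agent.HN.NormalH (ψ)
open Cfsg.Agent.HN.H0Basic (τ)

local notation "HN" => Cfsg.Spor.HN

instance fin : Finite HN := Cfsg.Agent.H651.HNF.fin

theorem cn_conj {g h : HN} (hc : IsConj g h) : cn g = cn h := Cfsg.Agent.H653.HNE.card_cent_of_isConj hc

theorem cn_A : cn (ψ τ) = 177408000 := by
  rw [← cn_conj isConj_tt]
  exact card_cent_tt

theorem cn_B : cn W0 = 3686400 := Cfsg.Agent.KFacts.HN.card_PP

/-- the involutions -/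
theorem two {g : HN} (h : orderOf g = 2) : (IsConj (ψ τ) g ∧ cn g = 177408000) ∨ (IsConj W0 g ∧ cn g = 3686400) := by
  rcases inv_class h with h1 | h1
  · exact Or.inl ⟨h1.symm, by rw [cn_conj h1, cn_A]⟩
  · exact Or.inr ⟨h1.symm, by rw [cn_conj h1, cn_B]⟩

theorem ord_pw {g : HN} {n p m : ℕ} (h : orderOf g = n) (hn : p * m = n) (hp : 0 < p) : orderOf (g ^ p) = m := by
  rw [orderOf_pow, h, ← hn, Nat.gcd_eq_right (dvd_mul_right p m), Nat.mul_div_cancel_left _ hp]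

/-- **order 4** -/
theorem four {g : HN} (h : orderOf g = 4) :
    (IsConj Cfsg.Agent.H653.HNE.R4A g ∧ cn (g ^ 2) = 3686400 ∧ cn g = 15360) ∨
    (IsConj (ψ Cfsg.Agent.HN.Pres.gx) g ∧ cn (g ^ 2) = 177408000 ∧ cn g = 5760) ∨
    (IsConj Cfsg.Agent.H653.HNE.R4C g ∧ cn (g ^ 2) = 3686400 ∧ cn g = 3840) := by
  rcases two (ord_pw h (p := 2) (m := 2) rfl (by norm_num)) with ⟨h1, h2⟩ | ⟨h1, h2⟩
  · obtain ⟨h3, h4⟩ := Cfsg.Agent.H981.M23.HNTwoB.four h1
    exact Or.inr (Or.inl ⟨h3, h2, h4⟩)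
  · rcases Cfsg.Agent.H653.HNE.conj_four h1 with h3 | h3
    · exact Or.inl ⟨h3, h2, by rw [← cn_conj h3]; exact Cfsg.Agent.H653.HNE.card_4A⟩
    · exact Or.inr (Or.inr ⟨h3, h2, by rw [← cn_conj h3]; exact Cfsg.Agent.H653.HNE.card_4C⟩)

/-- **order 8** -/
theorem eight {g : HN} (h : orderOf g = 8) :
    (IsConj (ψ Cfsg.Agent.H981.M23.HNTwoA.E) g ∧ cn (g ^ 2) = 5760 ∧ cn g = 80) ∨
    (IsConj Cfsg.Agent.H653.HNE.R8B g ∧ cn (g ^ 2) = 15360 ∧ cn g = 64) := by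
  rcases two (ord_pw h (p := 4) (m := 2) rfl (by norm_num)) with ⟨h1, h2⟩ | ⟨h1, h2⟩
  · obtain ⟨h3, h4⟩ := Cfsg.Agent.H981.M23.HNTwoB.eight h1
    have h5 : IsConj (ψ τ) ((g ^ 2) ^ 2) := by rw [← pow_mul]; exact h1
    exact Or.inl ⟨h3, (Cfsg.Agent.H981.M23.HNTwoB.four h5).2, h4⟩
  · have h3 := Cfsg.Agent.H653.HNE.conj_eight h1
    refine Or.inr ⟨h3, ?_, by rw [← cn_conj h3]; exact Cfsg.Agent.H653.HNE.card_8B⟩
    rw [← cn_conj (Cfsg.Agent.H653.HNE.conj_8B_sq h1)]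
    exact Cfsg.Agent.H653.HNE.card_4A

theorem not16 (x : HN) : orderOf x ≠ 16 := by
  intro h
  rcases two (ord_pw h (p := 8) (m := 2) rfl (by norm_num)) with ⟨h1, -⟩ | ⟨h1, -⟩
  · exact Cfsg.Agent.H981.M23.HNTwoB.not_sixteen x h1
  · exact Cfsg.Agent.H653.HNE.not_sixteen x h1

theorem not24 (x : HN) : orderOf x ≠ 24 := by
  intro h
  have h3 : orderOf (x ^ 8) = 3 := ord_pw h (p := 8) (m := 3) rfl (by norm_num)
  have h8 : orderOf (x ^ 3) = 8 := ord_pw h (p := 3) (m := 8) rfl (by norm_num)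
  have h1 : orderOf (x ^ 8) ∣ cn (x ^ 3) := cn_dvd_of_comm ((Commute.refl x).pow_pow 3 8)
  rw [h3] at h1
  rcases eight h8 with ⟨-, -, h2⟩ | ⟨-, -, h2⟩ <;> (rw [h2] at h1; norm_num at h1)

/-- the elements of order 3 -/
theorem three {g : HN} (h : orderOf g = 3) : IsConj X1 g ∨ IsConj X3 g := by
  obtain ⟨t, ht, hc⟩ := Cfsg.Agent.H728.Four.HN3C.comm_inv (a := g) (by rw [← h, pow_orderOf_eq_one])
  obtain ⟨c, hc | hc⟩ := Cfsg.Agent.H569.HNThree.conj_of_comm (y := g) (t := t)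
    ⟨1, by rw [pow_one, ← h, pow_orderOf_eq_one]⟩ ht hc.symm (by rintro rfl; rw [orderOf_one] at h; norm_num at h)
  · exact Or.inl (isConj_iff.2 ⟨c, hc⟩ : IsConj g X1).symm
  · exact Or.inr (isConj_iff.2 ⟨c, hc⟩ : IsConj g X3).symm

theorem X1_tt : tt * X1 = X1 * tt := comm_of t2_mem x1_mem (by decide +kernel)

/-- elements of order 3 commuting with a 2A-involution -/
theorem three_A {x t : HN} (ht : IsConj (ψ τ) t) (hx : orderOf x = 3) (hc : t * x = x * t) : IsConj X1 x :=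
  (Cfsg.Agent.H981.M23.HNTwoB.three isConj_tt.symm order_X1 X1_tt).symm.trans
    (Cfsg.Agent.H981.M23.HNTwoB.three ht hx hc)

/-- the inputs from `C(X1)` and `C(X3)` -/
structure Inp (i1 i3 : HN) : Prop where
  hX1 : cn (X1 : HN) = 544320
  hX3 : cn (X3 : HN) = 29160
  h45 : ∀ b x : HN, orderOf b = 5 → orderOf x = 9 → b * x ≠ x * b
  nocube : ∀ x : HN, x ^ 3 ≠ X1
  six : ∀ g : HN, orderOf g = 6 → IsConj (g ^ 3) W0 →
    (IsConj (X1 * S1) g ∧ IsConj (g ^ 4) X1) ∨ (IsConj (X3 * S3) g ∧ IsConj (g ^ 4) X3)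
  c6B : cn (X1 * S1 : HN) = 576
  c6C : cn (X3 * S3 : HN) = 360
  twelve : ∀ g : HN, orderOf g = 12 → IsConj (g ^ 6) W0 → IsConj i1 g ∨ IsConj i3 g
  c12B : cn i1 = 48
  c12C : cn i3 = 12
  s12B : IsConj (X1 * S1) (i1 ^ 2)
  s12C : IsConj (X3 * S3) (i3 ^ 2)
  u12B : IsConj Cfsg.Agent.H653.HNE.R4A (i1 ^ 3)
  u12C : IsConj Cfsg.Agent.H653.HNE.R4C (i3 ^ 3)

namespace Inp

variable {i1 i3 : HN} (I : Inp i1 i3)
include I

theorem three' {g : HN} (h : orderOf g = 3) : (IsConj X1 g ∧ cn g = 544320) ∨ (IsConj X3 g ∧ cn g = 29160) := by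
  rcases three h with h1 | h1
  · exact Or.inl ⟨h1, by rw [← cn_conj h1, I.hX1]⟩
  · exact Or.inr ⟨h1, by rw [← cn_conj h1, I.hX3]⟩

omit I in
/-- `g ^ 2` and `g ^ 4` have the same centralizer if `g ^ 6 = 1` -/
theorem cn_sq6 {g : HN} (h : orderOf g = 6) : cn (g ^ 2) = cn (g ^ 4) := by
  have h3 : orderOf (g ^ 2) = 3 := ord_pw h (p := 2) (m := 3) rfl (by norm_num)
  have := cn_pow (g := g ^ 2) (m := 2) (by rw [h3]; norm_num)
  rw [← pow_mul] at this
  exact this.symm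

/-- **order 6** -/
theorem six' {g : HN} (h : orderOf g = 6) :
    (IsConj (ψ (Cfsg.Agent.HN.P1408.hw [2, 2] * τ)) g ∧ cn (g ^ 3) = 177408000 ∧ cn (g ^ 2) = 544320 ∧ cn g = 1440) ∨
    (IsConj (X1 * S1) g ∧ cn (g ^ 3) = 3686400 ∧ cn (g ^ 2) = 544320 ∧ cn g = 576) ∨
    (IsConj (X3 * S3) g ∧ cn (g ^ 3) = 3686400 ∧ cn (g ^ 2) = 29160 ∧ cn g = 360) := by
  rcases two (ord_pw h (p := 3) (m := 2) rfl (by norm_num)) with ⟨h1, h2⟩ | ⟨h1, h2⟩
  · obtain ⟨h3, h4⟩ := Cfsg.Agent.H981.M23.HNTwoB.six h1 h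
    have h5 : IsConj X1 (g ^ 2) := three_A h1 (ord_pw h (p := 2) (m := 3) rfl (by norm_num))
      (by rw [← pow_add, ← pow_add])
    exact Or.inl ⟨h3, h2, by rw [← cn_conj h5, I.hX1], h4⟩
  · rcases I.six g h h1.symm with ⟨h3, h4⟩ | ⟨h3, h4⟩
    · exact Or.inr (Or.inl ⟨h3, h2, by rw [cn_sq6 h, cn_conj h4, I.hX1], by rw [← cn_conj h3, I.c6B]⟩)
    · exact Or.inr (Or.inr ⟨h3, h2, by rw [cn_sq6 h, cn_conj h4, I.hX3], by rw [← cn_conj h3, I.c6C]⟩)

omit I in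
theorem IsConj.pw {g h : HN} (hc : IsConj g h) (n : ℕ) : IsConj (g ^ n) (h ^ n) := by
  obtain ⟨c, hc⟩ := isConj_iff.1 hc
  exact isConj_iff.2 ⟨c, by rw [← conj_pow, hc]⟩

/-- **order 12** -/
theorem twelve' {g : HN} (h : orderOf g = 12) :
    (IsConj (ψ (Cfsg.Agent.HN.P1408.hw Cfsg.Agent.H981.M23.HNData.w1 * Cfsg.Agent.HN.P1408.hw Cfsg.Agent.H981.M23.HNData.wY)) g ∧
      cn (g ^ 2) = 1440 ∧ cn (g ^ 3) = 5760 ∧ cn g = 72) ∨
    (IsConj i1 g ∧ cn (g ^ 2) = 576 ∧ cn (g ^ 3) = 15360 ∧ cn g = 48) ∨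
    (IsConj i3 g ∧ cn (g ^ 2) = 360 ∧ cn (g ^ 3) = 3840 ∧ cn g = 12) := by
  rcases two (ord_pw h (p := 6) (m := 2) rfl (by norm_num)) with ⟨h1, h2⟩ | ⟨h1, h2⟩
  · obtain ⟨h3, h4⟩ := Cfsg.Agent.H981.M23.HNTwoB.twelve h1 h
    have h5 : IsConj (ψ τ) ((g ^ 2) ^ 3) := by rw [← pow_mul]; exact h1
    have h6 : IsConj (ψ τ) ((g ^ 3) ^ 2) := by rw [← pow_mul]; exact h1
    exact Or.inl ⟨h3, (Cfsg.Agent.H981.M23.HNTwoB.six h5 (ord_pw h (p := 2) (m := 6) rfl (by norm_num))).2,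
      (Cfsg.Agent.H981.M23.HNTwoB.four h6).2, h4⟩
  · rcases I.twelve g h h1.symm with h3 | h3
    · refine Or.inr (Or.inl ⟨h3, ?_, ?_, by rw [← cn_conj h3, I.c12B]⟩)
      · rw [← cn_conj (IsConj.pw h3 2), ← cn_conj I.s12B, I.c6B]
      · rw [← cn_conj (IsConj.pw h3 3), ← cn_conj I.u12B]; exact Cfsg.Agent.H653.HNE.card_4A
    · refine Or.inr (Or.inr ⟨h3, ?_, ?_, by rw [← cn_conj h3, I.c12C]⟩)
      · rw [← cn_conj (IsConj.pw h3 2), ← cn_conj I.s12C, I.c6C]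
      · rw [← cn_conj (IsConj.pw h3 3), ← cn_conj I.u12C]; exact Cfsg.Agent.H653.HNE.card_4C

/-- **order 9** -/
theorem nine' {g : HN} (h : orderOf g = 9) : cn (g ^ 3) = 29160 ∧ cn g = 27 := by
  constructor
  · rcases I.three' (ord_pw h (p := 3) (m := 3) rfl (by norm_num)) with ⟨h1, -⟩ | ⟨-, h1⟩
    · exfalso
      obtain ⟨c, hc⟩ := isConj_iff.1 h1.symm
      exact I.nocube (c * g * c⁻¹) (by rw [conj_pow]; exact hc)
    · exact h1
  · rw [← cn_conj (Nine.conj_nine h)]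
    exact Nine.card_AF I.h45

omit I in
theorem conj2 {P : HN → Prop} {r1 r2 : HN} {c1 c2 : ℕ} (hne : c1 ≠ c2)
    (h : ∀ g, P g → (IsConj r1 g ∧ cn g = c1) ∨ (IsConj r2 g ∧ cn g = c2)) {g k : HN} (hg : P g) (hk : P k)
    (hc : cn g = cn k) : IsConj g k := by
  rcases h g hg with ⟨h1, h2⟩ | ⟨h1, h2⟩ <;> rcases h k hk with ⟨h3, h4⟩ | ⟨h3, h4⟩
  · exact h1.symm.trans h3
  · exact absurd (h2.symm.trans (hc.trans h4)) hne
  · exact absurd (h4.symm.trans (hc.symm.trans h2)) hne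
  · exact h1.symm.trans h3

omit I in
theorem conj3 {P : HN → Prop} {r1 r2 r3 : HN} {c1 c2 c3 : ℕ} (h12 : c1 ≠ c2) (h13 : c1 ≠ c3) (h23 : c2 ≠ c3)
    (h : ∀ g, P g → (IsConj r1 g ∧ cn g = c1) ∨ (IsConj r2 g ∧ cn g = c2) ∨ (IsConj r3 g ∧ cn g = c3)) {g k : HN}
    (hg : P g) (hk : P k) (hc : cn g = cn k) : IsConj g k := by
  rcases h g hg with ⟨h1, h2⟩ | ⟨h1, h2⟩ | ⟨h1, h2⟩ <;> rcases h k hk with ⟨h3, h4⟩ | ⟨h3, h4⟩ | ⟨h3, h4⟩
  · exact h1.symm.trans h3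
  · exact absurd (h2.symm.trans (hc.trans h4)) h12
  · exact absurd (h2.symm.trans (hc.trans h4)) h13
  · exact absurd (h4.symm.trans (hc.symm.trans h2)) h12
  · exact h1.symm.trans h3
  · exact absurd (h2.symm.trans (hc.trans h4)) h23
  · exact absurd (h4.symm.trans (hc.symm.trans h2)) h13
  · exact absurd (h4.symm.trans (hc.symm.trans h2)) h23
  · exact h1.symm.trans h3

/-- **`Raw Spor.HN`** -/
theorem raw : Raw HN where
  card := card_G
  cover := order_cover not16 not24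
  r2 g h := (two h).imp And.right And.right
  r3 g h := (I.three' h).imp And.right And.right
  r4 g h := (four h).imp And.right (Or.imp And.right And.right)
  r6 g h := (I.six' h).imp And.right (Or.imp And.right And.right)
  r7 := card7
  r8 g h := (eight h).imp And.right And.right
  r9 g h := I.nine' h
  r11 := card11
  r12 g h := (I.twelve' h).imp And.right (Or.imp And.right And.right)
  r14 := card14
  r19 := card19
  r21 := card21
  r22 := card22
  conj := by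
    intro g k ho hc h5 h19
    have hcov := order_cover not16 not24 g h5
    simp only [Finset.mem_insert, Finset.mem_singleton] at hcov
    rcases hcov with h | h | h | h | h | h | h | h | h | h | h | h | h | h
    · rw [orderOf_eq_one_iff.1 h, orderOf_eq_one_iff.1 (ho.symm.trans h)]
    · exact conj2 (P := fun g => orderOf g = 2) (by norm_num) (fun g hg => two hg) h (ho.symm.trans h) hc
    · exact conj2 (P := fun g => orderOf g = 3) (by norm_num) (fun g hg => I.three' hg) h (ho.symm.trans h) hc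
    · exact conj3 (P := fun g => orderOf g = 4) (by norm_num) (by norm_num) (by norm_num)
        (fun g hg => (four hg).imp (And.imp_right And.right) (Or.imp (And.imp_right And.right) (And.imp_right And.right)))
        h (ho.symm.trans h) hc
    · exact conj3 (P := fun g => orderOf g = 6) (by norm_num) (by norm_num) (by norm_num)
        (fun g hg => (I.six' hg).imp (And.imp_right (And.right ∘ And.right))
          (Or.imp (And.imp_right (And.right ∘ And.right)) (And.imp_right (And.right ∘ And.right))))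
        h (ho.symm.trans h) hc
    · exact conj7 g k h (ho.symm.trans h)
    · exact conj2 (P := fun g => orderOf g = 8) (by norm_num)
        (fun g hg => (eight hg).imp (And.imp_right And.right) (And.imp_right And.right)) h (ho.symm.trans h) hc
    · exact (Nine.conj_nine h).symm.trans (Nine.conj_nine (ho.symm.trans h))
    · exact conj11 g k h (ho.symm.trans h)
    · exact conj3 (P := fun g => orderOf g = 12) (by norm_num) (by norm_num) (by norm_num)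
        (fun g hg => (I.twelve' hg).imp (And.imp_right (And.right ∘ And.right))
          (Or.imp (And.imp_right (And.right ∘ And.right)) (And.imp_right (And.right ∘ And.right))))
        h (ho.symm.trans h) hc
    · exact conj14 g k h (ho.symm.trans h)
    · exact absurd h h19
    · exact conj21 g k h (ho.symm.trans h)
    · exact conj22 g k h (ho.symm.trans h)

end Inp

end Cfsg.Agent.H651.HNF.RawHN
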